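import Mathlib
import Cfsg.Agent.S3888

/-!
Elementary abelian quotients of `3`-groups of rank at most two: order at most `27`, and no
automorphism permutes three independent coordinates of such a quotient cyclically.
-/

set_option autoImplicit false
set_option linter.style.haveILetI false

namespace CfsgLib.Lines85

open scoped commutatorElement

theorem forall_three {P : Fin 3 → Prop} : (∀ i, P i) ↔ P 0 ∧ P 1 ∧ P 2 :=
  ⟨fun h => ⟨h 0, h 1, h 2⟩, fun ⟨h0, h1, h2⟩ i => by fin_cases i <;> assumption⟩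

variable {G : Type*} [Group G]

/-- Elements of the subgroup generated by commuting images of two elements. -/
theorem exists_pow_form {x y : G} (N : Subgroup G) [N.Normal]
    (hc : ∀ a b : G, ⁅a, b⁆ ∈ N) (h3 : ∀ a : G, a ^ 3 ∈ N) {g : G}
    (hg : g ∈ Subgroup.closure ({x, y} : Set G) ⊔ N) :
    ∃ i j : Fin 3, ((x ^ (i : ℕ) * y ^ (j : ℕ) : G) : G ⧸ N) = (g : G ⧸ N) := by
  letI : CommGroup (G ⧸ N) :=
    { mul_comm := fun u v => by
        obtain ⟨a, rfl⟩ := QuotientGroup.mk_surjective u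
        obtain ⟨b, rfl⟩ := QuotientGroup.mk_surjective v
        rw [← commutatorElement_eq_one_iff_mul_comm]
        exact (QuotientGroup.eq_one_iff ⁅a, b⁆).2 (hc a b) }
  have hmem : (g : G ⧸ N) ∈ Subgroup.closure ({(x : G ⧸ N), (y : G ⧸ N)} : Set (G ⧸ N)) := by
    have h1 : QuotientGroup.mk' N g ∈ (Subgroup.closure ({x, y} : Set G) ⊔ N).map (QuotientGroup.mk' N) :=
      ⟨g, hg, rfl⟩
    rw [Subgroup.map_sup, QuotientGroup.map_mk'_self, sup_bot_eq, MonoidHom.map_closure,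
      Set.image_pair] at h1
    exact h1
  obtain ⟨m, n, hmn⟩ := Subgroup.mem_closure_pair.1 hmem
  have hper : ∀ (w : G) (k : ℤ), (w : G ⧸ N) ^ k = (w : G ⧸ N) ^ (((k : ZMod 3)).val : ℕ) := fun w k => by
    rw [← zpow_natCast]
    refine zpow_eq_zpow_iff_modEq.2 (Int.ModEq.of_dvd
      (Int.natCast_dvd_natCast.2 (orderOf_dvd_of_pow_eq_one (n := 3)
        ((QuotientGroup.eq_one_iff (w ^ 3)).2 (h3 w)))) ?_)
    rw [ZMod.val_intCast]
    exact (Int.mod_modEq k 3).symm
  refine ⟨⟨(m : ZMod 3).val, ZMod.val_lt _⟩, ⟨(n : ZMod 3).val, ZMod.val_lt _⟩, ?_⟩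
  show (x : G ⧸ N) ^ (m : ZMod 3).val * (y : G ⧸ N) ^ (n : ZMod 3).val = _
  rw [← hper, ← hper, hmn]

theorem index_le_nine [Finite G] {x y : G} (N : Subgroup G) [N.Normal]
    (hc : ∀ a b : G, ⁅a, b⁆ ∈ N) (h3 : ∀ a : G, a ^ 3 ∈ N)
    (hgen : Subgroup.closure ({x, y} : Set G) ⊔ N = ⊤) : N.index ≤ 9 := by
  rw [Subgroup.index_eq_card]
  have h := Nat.card_le_card_of_surjective
    (fun ij : Fin 3 × Fin 3 => ((x ^ (ij.1 : ℕ) * y ^ (ij.2 : ℕ) : G) : G ⧸ N)) fun u => by
      obtain ⟨g, rfl⟩ := QuotientGroup.mk_surjective u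
      obtain ⟨i, j, h⟩ := exists_pow_form N hc h3 (x := x) (y := y) (g := g)
        (hgen ▸ Subgroup.mem_top g)
      exact ⟨(i, j), h⟩
  simpa using h

/-- A `3`-group of rank at most two with a big elementary abelian quotient is a central product of a
group of exponent three and a cyclic group. -/
structure Product (G : Type*) [Group G] where
  n : ℕ
  x : G
  y : G
  z : G
  three_le : 3 ≤ n
  card_eq : Nat.card G = 3 ^ n
  gen : Subgroup.closure ({x, y, z} : Set G) = ⊤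
  x_cube : x ^ 3 = 1
  y_cube : y ^ 3 = 1
  z_pow : z ^ 3 ^ (n - 2) = 1
  xz : x * z = z * x
  yz : y * z = z * y
  yx : x⁻¹ * y * x = y * z ^ 3 ^ (n - 3)

/-- The elementary abelian quotients have order at most `27`, and beyond `9` the structure is
known. -/
theorem quotient_bound [Finite G] (hG : IsPGroup 3 G) (hr : Cfsg.PRankLE 3 2 G) (N : Subgroup G)
    [N.Normal] (hc : ∀ a b : G, ⁅a, b⁆ ∈ N) (h3 : ∀ a : G, a ^ 3 ∈ N) :
    N.index ≤ 27 ∧ (9 < N.index → Nonempty (Product G)) := by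
  haveI : Fact (Nat.Prime 3) := ⟨Nat.prime_three⟩
  obtain ⟨n, hn⟩ := IsPGroup.iff_card.1 hG
  suffices h9 : N.index ≤ 9 ∨ (N.index ≤ 27 ∧ Nonempty (Product G)) by
    rcases h9 with h | ⟨h, h'⟩
    · exact ⟨by omega, fun h' => by omega⟩
    · exact ⟨h, fun _ => h'⟩
  rcases Cfsg.Agent.S3888.result (p := 3) (by norm_num) n hn hr with
    ⟨C, hCn, hCc, hQc⟩ | ⟨hn3, x, y, z, hgen, hx, hy, hz, hxz, hyz, hyx⟩ |
      ⟨-, s, x, y, z, -, hgen, -, -, -, -, -, hzx⟩ | ⟨-, hn2, hcl⟩
  · left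
    obtain ⟨a, ha⟩ := hCc.exists_generator
    obtain ⟨b, hb⟩ := hQc.exists_generator
    obtain ⟨b, rfl⟩ := QuotientGroup.mk_surjective b
    refine index_le_nine (x := (a : G)) (y := b) N hc h3 (top_le_iff.1 fun g _ => ?_)
    obtain ⟨k, hk⟩ := Subgroup.mem_zpowers_iff.1 (hb (g : G ⧸ C))
    have hmem : (b ^ k)⁻¹ * g ∈ C := QuotientGroup.eq.1 hk
    obtain ⟨l, hl⟩ := Subgroup.mem_zpowers_iff.1 (ha ⟨_, hmem⟩)
    have e : g = b ^ k * (a : G) ^ l := by
      have := congrArg Subtype.val hl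
      rw [Subgroup.coe_zpow] at this
      rw [this]; group
    rw [e]
    exact Subgroup.mem_sup_left (mul_mem
      (Subgroup.zpow_mem _ (Subgroup.subset_closure (by simp)) k)
      (Subgroup.zpow_mem _ (Subgroup.subset_closure (by simp)) l))
  · right
    refine ⟨?_, ⟨⟨n, x, y, z, hn3, hn, hgen, hx, hy, hz, hxz, hyz, hyx⟩⟩⟩
    have h : Nat.card (G ⧸ N) ≤ Nat.card ((Fin 3 × Fin 3) × Fin 3) := by
      letI : CommGroup (G ⧸ N) :=
        { mul_comm := fun u v => by
            obtain ⟨a, rfl⟩ := QuotientGroup.mk_surjective u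
            obtain ⟨b, rfl⟩ := QuotientGroup.mk_surjective v
            rw [← commutatorElement_eq_one_iff_mul_comm]
            exact (QuotientGroup.eq_one_iff ⁅a, b⁆).2 (hc a b) }
      refine Nat.card_le_card_of_surjective
        (fun t : (Fin 3 × Fin 3) × Fin 3 =>
          ((x ^ (t.1.1 : ℕ) * y ^ (t.1.2 : ℕ) * z ^ (t.2 : ℕ) : G) : G ⧸ N)) fun u => ?_
      let R : Subgroup (G ⧸ N) :=
        { carrier := {u | ∃ i j k : ℕ, (x : G ⧸ N) ^ i * (y : G ⧸ N) ^ j * (z : G ⧸ N) ^ k = u}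
          one_mem' := ⟨0, 0, 0, by simp⟩
          mul_mem' := by
            rintro _ _ ⟨i, j, k, rfl⟩ ⟨i', j', k', rfl⟩
            exact ⟨i + i', j + j', k + k', by simp only [pow_add]; ac_rfl⟩
          inv_mem' := by
            rintro _ ⟨i, j, k, rfl⟩
            refine ⟨2 * i, 2 * j, 2 * k, eq_inv_of_mul_eq_one_left ?_⟩
            have h : ∀ (w : G) (m : ℕ), (w : G ⧸ N) ^ (2 * m) * (w : G ⧸ N) ^ m = 1 := fun w m => by
              rw [← pow_add, show 2 * m + m = 3 * m by ring, pow_mul,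
                show (w : G ⧸ N) ^ 3 = 1 from (QuotientGroup.eq_one_iff (w ^ 3)).2 (h3 w), one_pow]
            calc _ = ((x : G ⧸ N) ^ (2 * i) * (x : G ⧸ N) ^ i) * ((y : G ⧸ N) ^ (2 * j) * (y : G ⧸ N) ^ j) *
                  ((z : G ⧸ N) ^ (2 * k) * (z : G ⧸ N) ^ k) := by
                    ac_rfl
              _ = 1 := by rw [h, h, h, one_mul, one_mul] }
      obtain ⟨g, rfl⟩ := QuotientGroup.mk_surjective u
      have hle : Subgroup.closure ({x, y, z} : Set G) ≤ R.comap (QuotientGroup.mk' N) := by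
        rw [Subgroup.closure_le]
        rintro w (rfl | rfl | rfl)
        · exact ⟨1, 0, 0, by simp⟩
        · exact ⟨0, 1, 0, by simp⟩
        · exact ⟨0, 0, 1, by simp⟩
      obtain ⟨i, j, k, hijk⟩ := hle (hgen ▸ Subgroup.mem_top g)
      have hmod : ∀ (w : G) (m : ℕ), (w : G ⧸ N) ^ (m % 3) = (w : G ⧸ N) ^ m := fun w m => by
        conv_rhs => rw [← Nat.div_add_mod m 3, pow_add, pow_mul,
          show (w : G ⧸ N) ^ 3 = 1 from (QuotientGroup.eq_one_iff (w ^ 3)).2 (h3 w), one_pow, one_mul]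
      refine ⟨((⟨i % 3, by omega⟩, ⟨j % 3, by omega⟩), ⟨k % 3, by omega⟩), ?_⟩
      show (x : G ⧸ N) ^ (i % 3) * (y : G ⧸ N) ^ (j % 3) * (z : G ⧸ N) ^ (k % 3) = _
      rw [hmod, hmod, hmod]
      exact hijk
    rw [Subgroup.index_eq_card]
    simpa using h
  · left
    refine index_le_nine (x := x) (y := z) N hc h3 (top_le_iff.1 ?_)
    rw [← hgen, Subgroup.closure_le]
    rintro w (rfl | rfl | rfl)
    · exact Subgroup.mem_sup_left (Subgroup.subset_closure (by simp))
    · -- `y` is a commutator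
      have : w = x⁻¹ * z * x * z⁻¹ := by rw [hzx]; group
      rw [this]
      refine Subgroup.mem_sup_right ?_
      have := hc x⁻¹ z
      rwa [commutatorElement_def, inv_inv] at this
    · exact Subgroup.mem_sup_left (Subgroup.subset_closure (by simp))
  · left
    have hcomm : commutator G ≤ N := by
      rw [commutator_def, Subgroup.commutator_le]; exact fun a _ b _ => hc a b
    haveI := hG.isNilpotent
    let L : ℕ → Subgroup G := fun i => (⊤ : Subgroup G).lowerCentralSeries i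
    have key : ∀ i, 1 ≤ i → i ≤ n - 2 → 3 ^ (n - 1 - i) ≤ Nat.card (L i) := by
      intro i hi1 hin
      induction hk : n - 2 - i generalizing i with
      | zero =>
        have : i = n - 2 := by omega
        subst this
        obtain ⟨k, hk'⟩ := IsPGroup.iff_card.1 (hG.to_subgroup (L (n - 2)))
        have hk0 : k ≠ 0 := fun h => hcl (Subgroup.card_eq_one.1 (by rw [hk', h, pow_zero]))
        rw [hk', show n - 1 - (n - 2) = 1 by omega]
        exact Nat.pow_le_pow_right (by norm_num) (by omega)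
      | succ d ih =>
        have h1 := ih (i + 1) (by omega) (by omega) (by omega)
        have hlt : L (i + 1) < L i := by
          refine lt_of_le_of_ne (Subgroup.lowerCentralSeries_antitone (S := (⊤ : Subgroup G)) (Nat.le_succ i)) fun e => ?_
          refine hcl (le_bot_iff.1 ?_)
          have hstab : ∀ m, i ≤ m → L m = L i := by
            intro m hm
            induction m, hm using Nat.le_induction with
            | base => rfl
            | succ m _ ihm =>
              show (⊤ : Subgroup G).lowerCentralSeries (m + 1) = _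
              rw [Subgroup.lowerCentralSeries_succ]
              rw [show (⊤ : Subgroup G).lowerCentralSeries m = (⊤ : Subgroup G).lowerCentralSeries i from ihm,
                ← Subgroup.lowerCentralSeries_succ]
              exact e
          obtain ⟨m, hm⟩ := nilpotent_iff_lowerCentralSeries.1 (inferInstance : Group.IsNilpotent G)
          have e1 : L (n - 2) = L i := hstab _ hin
          have e2 : L (max m i) = L i := hstab _ (le_max_right _ _)
          show L (n - 2) ≤ ⊥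
          rw [e1, ← e2, ← hm]
          exact Subgroup.lowerCentralSeries_antitone (S := (⊤ : Subgroup G)) (le_max_left _ _)
        obtain ⟨k, hk'⟩ := IsPGroup.iff_card.1 (hG.to_subgroup (L i))
        obtain ⟨k', hk''⟩ := IsPGroup.iff_card.1 (hG.to_subgroup (L (i + 1)))
        have hlt' : Nat.card (L (i + 1)) < Nat.card (L i) :=
          lt_of_le_of_ne (Subgroup.card_le_of_le hlt.le)
            fun e => hlt.ne (Subgroup.eq_of_le_of_card_ge hlt.le e.ge)
        rw [hk', hk''] at hlt'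
        rw [hk''] at h1
        have h1' := (Nat.pow_le_pow_iff_right (by norm_num : 1 < 3)).1 h1
        have hlt'' := (Nat.pow_lt_pow_iff_right (by norm_num : 1 < 3)).1 hlt'
        rw [hk']
        exact Nat.pow_le_pow_right (by norm_num) (by omega)
    have hidx := N.card_mul_index
    rw [hn] at hidx
    have hL1 : L 1 ≤ N := by
      show (⊤ : Subgroup G).lowerCentralSeries 1 ≤ N
      rwa [Subgroup.lowerCentralSeries_one]
    rcases Nat.lt_or_ge n 3 with hn' | hn'
    · have : N.index ≤ 3 ^ n := hidx ▸ Nat.le_mul_of_pos_left _ Nat.card_pos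
      exact this.trans ((Nat.pow_le_pow_right (by norm_num) (by omega : n ≤ 2)).trans (by norm_num))
    · have h2 := (key 1 le_rfl (by omega)).trans (Subgroup.card_le_of_le hL1)
      have h4 : 3 ^ (n - 1 - 1) * N.index ≤ 3 ^ (n - 1 - 1) * 9 := by
        calc _ ≤ Nat.card N * N.index := Nat.mul_le_mul_right _ h2
          _ = 3 ^ n := hidx
          _ = 3 ^ (n - 1 - 1) * 9 := by
            rw [show (9 : ℕ) = 3 ^ 2 by norm_num, ← pow_add]; congr 1; omega
      exact Nat.le_of_mul_le_mul_left h4 (pow_pos (by norm_num) _)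

namespace Product

variable (D : Product G)

/-- The exponent three part. -/
def part : Subgroup G := Subgroup.closure {D.x, D.y}

theorem z_central : D.z ∈ Subgroup.center G := by
  refine Subgroup.mem_center_iff.2 fun g => ?_
  have hle : Subgroup.closure ({D.x, D.y, D.z} : Set G) ≤ Subgroup.centralizer {D.z} := by
    rw [Subgroup.closure_le]
    rintro w (rfl | rfl | rfl) <;> refine Subgroup.mem_centralizer_singleton_iff.2 ?_
    · exact D.xz
    · exact D.yz
    · rfl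
  exact Subgroup.mem_centralizer_singleton_iff.1 (hle (D.gen ▸ Subgroup.mem_top g))

/-- The commutator of the generators. -/
def c : G := D.z ^ 3 ^ (D.n - 3)

theorem c_central : D.c ∈ Subgroup.center G := Subgroup.pow_mem _ D.z_central _

theorem y_pow_x (i : ℕ) : ∀ j : ℕ, D.y ^ j * D.x ^ i = D.x ^ i * D.y ^ j * D.c ^ (i * j) := by
  have hc : ∀ (g : G) (m : ℕ), D.c ^ m * g = g * D.c ^ m := fun g m =>
    ((Commute.pow_right (show Commute g D.c from Subgroup.mem_center_iff.1 D.c_central g) m).eq).symm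
  have h1 : D.y * D.x = D.x * D.y * D.c := by
    have h := D.yx
    rw [show D.z ^ 3 ^ (D.n - 3) = D.c from rfl] at h
    rw [mul_assoc D.x, ← h]; group
  have hi : ∀ i : ℕ, D.y * D.x ^ i = D.x ^ i * D.y * D.c ^ i := by
    intro i
    induction i with
    | zero => simp
    | succ i ih =>
      calc D.y * D.x ^ (i + 1) = D.y * D.x ^ i * D.x := by rw [pow_succ, mul_assoc]
        _ = D.x ^ i * D.y * (D.c ^ i * D.x) := by rw [ih, mul_assoc]
        _ = D.x ^ i * (D.y * D.x) * D.c ^ i := by rw [hc]; simp only [mul_assoc]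
        _ = D.x ^ (i + 1) * D.y * (D.c * D.c ^ i) := by rw [h1, pow_succ]; simp only [mul_assoc]
        _ = _ := by rw [← pow_succ']
  intro j
  induction j with
  | zero => simp
  | succ j ih =>
    calc D.y ^ (j + 1) * D.x ^ i = D.y * (D.y ^ j * D.x ^ i) := by rw [pow_succ', mul_assoc]
      _ = D.y * D.x ^ i * D.y ^ j * D.c ^ (i * j) := by rw [ih]; simp only [mul_assoc]
      _ = D.x ^ i * D.y * (D.c ^ i * D.y ^ j) * D.c ^ (i * j) := by rw [hi]; simp only [mul_assoc]
      _ = D.x ^ i * (D.y * D.y ^ j) * (D.c ^ i * D.c ^ (i * j)) := by rw [hc]; simp only [mul_assoc]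
      _ = _ := by rw [← pow_succ', ← pow_add]; congr 2; ring

theorem form (g : G) : ∃ i j k : ℕ, g = D.x ^ i * D.y ^ j * D.z ^ k := by
  have hz : ∀ (g : G) (m : ℕ), D.z ^ m * g = g * D.z ^ m := fun g m =>
    ((Commute.pow_right (show Commute g D.z from Subgroup.mem_center_iff.1 D.z_central g) m).eq).symm
  have hle : Submonoid.closure ({D.x, D.y, D.z} : Set G) ≤
      { carrier := {g | ∃ i j k : ℕ, g = D.x ^ i * D.y ^ j * D.z ^ k}
        one_mem' := ⟨0, 0, 0, by simp⟩
        mul_mem' := by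
          rintro _ _ ⟨i, j, k, rfl⟩ ⟨i', j', k', rfl⟩
          refine ⟨i + i', j + j', 3 ^ (D.n - 3) * (i' * j) + (k + k'), ?_⟩
          calc D.x ^ i * D.y ^ j * D.z ^ k * (D.x ^ i' * D.y ^ j' * D.z ^ k')
              = D.x ^ i * D.y ^ j * (D.z ^ k * D.x ^ i') * (D.y ^ j' * D.z ^ k') := by
                simp only [mul_assoc]
            _ = D.x ^ i * (D.y ^ j * D.x ^ i') * (D.z ^ k * D.y ^ j') * D.z ^ k' := by
                rw [hz]; simp only [mul_assoc]
            _ = D.x ^ i * D.x ^ i' * D.y ^ j * (D.c ^ (i' * j) * D.y ^ j') * (D.z ^ k * D.z ^ k') := by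
                rw [hz _ k, y_pow_x]; simp only [mul_assoc]
            _ = _ := by
                rw [show D.c ^ (i' * j) = D.z ^ (3 ^ (D.n - 3) * (i' * j)) by rw [c, ← pow_mul], hz,
                  pow_add, pow_add, pow_add, pow_add]
                simp only [mul_assoc] } := by
    rw [Submonoid.closure_le]
    rintro w (rfl | rfl | rfl)
    · exact ⟨1, 0, 0, by simp⟩
    · exact ⟨0, 1, 0, by simp⟩
    · exact ⟨0, 0, 1, by simp⟩
  haveI : Finite G := Nat.finite_of_card_ne_zero (by rw [D.card_eq]; positivity)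
  have htop : Submonoid.closure ({D.x, D.y, D.z} : Set G) = ⊤ := by
    rw [← Subgroup.closure_toSubmonoid_of_finite, D.gen]; rfl
  exact hle (htop ▸ Submonoid.mem_top g)

theorem c_cube : D.c ^ 3 = 1 := by
  rw [c, ← pow_mul, ← pow_succ, show D.n - 3 + 1 = D.n - 2 by have := D.three_le; omega, D.z_pow]

/-- The order of `z`, unless the group is abelian of rank three. -/
theorem c_ne_one (hr : Cfsg.PRankLE 3 2 G) : D.c ≠ 1 := by
  intro hc1
  haveI : Finite G := Nat.finite_of_card_ne_zero (by rw [D.card_eq]; positivity)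
  have hord : orderOf D.z ∣ 3 ^ (D.n - 3) := orderOf_dvd_of_pow_eq_one hc1
  set f : (Fin 3 × Fin 3) × Fin (3 ^ (D.n - 3)) → G :=
    fun t => D.x ^ (t.1.1 : ℕ) * D.y ^ (t.1.2 : ℕ) * D.z ^ (t.2 : ℕ) with hf
  have hsurj : Function.Surjective f := fun g => by
    obtain ⟨i, j, k, rfl⟩ := D.form g
    refine ⟨((⟨i % 3, by omega⟩, ⟨j % 3, by omega⟩), ⟨k % 3 ^ (D.n - 3), Nat.mod_lt _ (by positivity)⟩), ?_⟩
    show D.x ^ (i % 3) * D.y ^ (j % 3) * D.z ^ (k % 3 ^ (D.n - 3)) = _
    rw [← pow_eq_pow_mod i D.x_cube, ← pow_eq_pow_mod j D.y_cube, ← pow_eq_pow_mod k hc1]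
  have h := Nat.card_le_card_of_surjective f hsurj
  rw [D.card_eq] at h
  simp only [Nat.card_prod, Nat.card_fin] at h
  have h3n : 3 ^ D.n = 3 * 3 * 3 * 3 ^ (D.n - 3) := by
    rw [show 3 * 3 * 3 = 3 ^ 3 by norm_num, ← pow_add, Nat.add_sub_cancel' D.three_le]
  have : 0 < 3 ^ (D.n - 3) := by positivity
  omega

theorem orderOf_z (hr : Cfsg.PRankLE 3 2 G) : orderOf D.z = 3 ^ (D.n - 2) := by
  obtain ⟨k, hk, hk'⟩ := (Nat.dvd_prime_pow Nat.prime_three).1 (orderOf_dvd_of_pow_eq_one D.z_pow)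
  rw [hk']
  congr 1
  by_contra hne
  refine D.c_ne_one hr (orderOf_dvd_iff_pow_eq_one.1 ?_)
  rw [hk']
  exact pow_dvd_pow 3 (by omega)

theorem center_le (hr : Cfsg.PRankLE 3 2 G) : Subgroup.center G ≤ Subgroup.zpowers D.z := by
  intro g hg
  obtain ⟨i, j, k, rfl⟩ := D.form g
  have hw : D.x ^ i * D.y ^ j ∈ Subgroup.center G := by
    have h := mul_mem hg (inv_mem (Subgroup.pow_mem _ D.z_central k))
    rwa [mul_inv_cancel_right] at h
  have hc : orderOf D.c = 3 :=
    orderOf_eq_prime (hp := ⟨Nat.prime_three⟩) D.c_cube (D.c_ne_one hr)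
  have hj : 3 ∣ j := by
    have h := Subgroup.mem_center_iff.1 hw D.x
    have h1 : D.y ^ j * D.x ^ 1 = D.x ^ 1 * D.y ^ j * D.c ^ (1 * j) := D.y_pow_x 1 j
    rw [pow_one, one_mul] at h1
    rw [mul_assoc (D.x ^ i), h1, ← mul_assoc, ← mul_assoc, ← mul_assoc, ← pow_succ' D.x i,
      ← pow_succ D.x i, left_eq_mul] at h
    exact hc ▸ orderOf_dvd_of_pow_eq_one h
  have hi : 3 ∣ i := by
    have h := Subgroup.mem_center_iff.1 hw D.y
    have h1 : D.y ^ 1 * D.x ^ i = D.x ^ i * D.y ^ 1 * D.c ^ (i * 1) := D.y_pow_x i 1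
    rw [pow_one, mul_one] at h1
    have h2 : D.x ^ i * D.y ^ j * D.y = D.x ^ i * (D.y * D.y ^ j) := by
      rw [mul_assoc, ← pow_succ, ← pow_succ']
    rw [h2, ← mul_assoc D.y, h1, mul_assoc (D.x ^ i * D.y), ← mul_assoc (D.x ^ i) D.y] at h
    have h3 : D.c ^ i * D.y ^ j = D.y ^ j := mul_left_cancel h
    exact hc ▸ orderOf_dvd_of_pow_eq_one (mul_eq_right.1 h3)
  rw [pow_eq_pow_mod i D.x_cube, pow_eq_pow_mod j D.y_cube, Nat.mod_eq_zero_of_dvd hi,
    Nat.mod_eq_zero_of_dvd hj, pow_zero, pow_zero, one_mul, one_mul]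
  exact Subgroup.npow_mem_zpowers D.z k

theorem cube_eq_one_mem (hr : Cfsg.PRankLE 3 2 G) {g : G} (hg : g ^ 3 = 1) :
    g ∈ D.part ⊔ Subgroup.zpowers D.c := by
  obtain ⟨i, j, k, rfl⟩ := D.form g
  have hz : ∀ w : G, Commute w D.z := fun w => Subgroup.mem_center_iff.1 D.z_central w
  have hcm : ∀ w : G, Commute w D.c := fun w => Subgroup.mem_center_iff.1 D.c_central w
  have hsq : ∀ a b : ℕ, D.x ^ a * D.y ^ b * (D.x ^ i * D.y ^ j) =
      D.x ^ (a + i) * D.y ^ (b + j) * D.c ^ (i * b) := by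
    intro a b
    calc D.x ^ a * D.y ^ b * (D.x ^ i * D.y ^ j) = D.x ^ a * (D.y ^ b * D.x ^ i) * D.y ^ j := by
          simp only [mul_assoc]
      _ = D.x ^ a * D.x ^ i * D.y ^ b * (D.c ^ (i * b) * D.y ^ j) := by
          rw [D.y_pow_x]; simp only [mul_assoc]
      _ = _ := by rw [((hcm _).pow_right _).eq.symm, pow_add, pow_add]; simp only [mul_assoc]
  have hc0 : (i * (j + j) + i * j) % 3 = 0 :=
    Nat.mod_eq_zero_of_dvd ⟨i * j, by ring⟩
  have hw3 : (D.x ^ i * D.y ^ j) ^ 3 = 1 := by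
    rw [pow_succ, pow_two, hsq i j, mul_assoc _ (D.c ^ (i * j)), ← ((hcm _).pow_right _).eq,
      ← mul_assoc, hsq (i + i) (j + j), mul_assoc _ (D.c ^ _), ← pow_add,
      pow_eq_pow_mod (i + i + i) D.x_cube, pow_eq_pow_mod (j + j + j) D.y_cube,
      pow_eq_pow_mod (i * (j + j) + i * j) D.c_cube,
      show (i + i + i) % 3 = 0 by omega, show (j + j + j) % 3 = 0 by omega,
      hc0]
    simp
  rw [((hz _).pow_right k).mul_pow, hw3, one_mul, ← pow_mul] at hg
  have hdvd : 3 ^ (D.n - 3) ∣ k := by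
    have h := orderOf_dvd_of_pow_eq_one hg
    rw [D.orderOf_z hr, show D.n - 2 = D.n - 3 + 1 by have := D.three_le; omega, pow_succ] at h
    exact Nat.dvd_of_mul_dvd_mul_right (by norm_num) h
  obtain ⟨m, rfl⟩ := hdvd
  rw [pow_mul]
  exact Subgroup.mul_mem_sup (mul_mem (Subgroup.pow_mem _ (Subgroup.subset_closure (by simp)) i)
    (Subgroup.pow_mem _ (Subgroup.subset_closure (by simp)) j)) (Subgroup.npow_mem_zpowers D.c m)

end Product

/-- No automorphism permutes three independent coordinates cyclically. -/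
theorem no_three [Finite G] (hG : IsPGroup 3 G) (hr : Cfsg.PRankLE 3 2 G)
    (N : Fin 3 → Subgroup G) [∀ i, (N i).Normal] (hc : ∀ (i : Fin 3) (a b : G), ⁅a, b⁆ ∈ N i)
    (h3 : ∀ (i : Fin 3) (a : G), a ^ 3 ∈ N i) (u : MulAut G)
    (hu : ∀ (i : Fin 3) (a : G), a ∈ N i → u a ∈ N (i + 1))
    (hu3 : ∀ (i : Fin 3) (a : G), u (u (u a)) * a⁻¹ ∈ N i)
    (b : G) (hb1 : b ∈ N 1) (hb2 : b ∈ N 2) (hb0 : b ∉ N 0) (hidx : (N 0).index = 3) : False := by
  classical
  set M := N 0 ⊓ N 1 ⊓ N 2 with hM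
  have hmemM : ∀ g, g ∈ M ↔ ∀ i, g ∈ N i := fun g => by
    rw [hM, Subgroup.mem_inf, Subgroup.mem_inf, forall_three]; tauto
  haveI : M.Normal := ⟨fun g hg w => (hmemM _).2 fun i => (inferInstance : (N i).Normal).conj_mem g ((hmemM g).1 hg i) w⟩
  have hMc : ∀ a b, ⁅a, b⁆ ∈ M := fun a b => (hmemM _).2 fun i => hc i a b
  have hM3 : ∀ a, a ^ 3 ∈ M := fun a => (hmemM _).2 fun i => h3 i a
  have huM : ∀ a, a ∈ M → u a ∈ M := fun a ha => (hmemM _).2 fun i => by
    have := hu (i - 1) a ((hmemM a).1 ha _)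
    rwa [sub_add_cancel] at this
  set b1 := u b with hb1def
  set b2 := u b1 with hb2def
  have hback : ∀ i a, u a ∈ N (i + 1) → a ∈ N i := by
    intro i a ha
    have h1 := hu _ _ (hu _ _ ha)
    rw [(by decide : ∀ i : Fin 3, i + 1 + 1 + 1 = i) i] at h1
    have h2 := mul_mem (inv_mem (hu3 i a)) h1
    rwa [mul_inv_rev, inv_inv, inv_mul_cancel_right] at h2
  have hb1n : b1 ∉ N 1 := fun h => hb0 (hback 0 b h)
  have hb2n : b2 ∉ N 2 := fun h => hb1n (hback 1 b1 h)
  have hb10 : b1 ∈ N 0 := hu 2 b hb2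
  have hb12 : b1 ∈ N 2 := hu 1 b hb1
  have hb20 : b2 ∈ N 0 := hu 2 b1 hb12
  have hb21 : b2 ∈ N 1 := hu 0 b1 hb10
  -- the index exceeds nine
  have h27 : 27 ≤ M.index := by
    rw [Subgroup.index_eq_card]
    let f : (Fin 3 × Fin 3) × Fin 3 → G ⧸ M :=
      fun t => ((b ^ (t.1.1 : ℕ) * b1 ^ (t.1.2 : ℕ) * b2 ^ (t.2 : ℕ) : G) : G ⧸ M)
    have key : ∀ (i : Fin 3) (a : G) (m n : Fin 3), a ∉ N i → (a ^ (m : ℕ) : G)⁻¹ * a ^ (n : ℕ) ∈ N i → m = n := by
      intro i a m n ha h
      by_contra hne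
      refine ha ((QuotientGroup.eq_one_iff a).1 ?_)
      have he : ((a : G ⧸ N i) ^ (m : ℕ)) = (a : G ⧸ N i) ^ (n : ℕ) := QuotientGroup.eq.2 h
      have h31 : (a : G ⧸ N i) ^ 3 = 1 := (QuotientGroup.eq_one_iff (a ^ 3)).2 (h3 i a)
      have hord : orderOf (a : G ⧸ N i) ∣ 3 := orderOf_dvd_of_pow_eq_one h31
      rcases (Nat.dvd_prime Nat.prime_three).1 hord with h1 | h1
      · exact orderOf_eq_one_iff.1 h1
      · exact absurd (Fin.ext (pow_injOn_Iio_orderOf (by rw [Set.mem_Iio, h1]; exact m.isLt)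
          (by rw [Set.mem_Iio, h1]; exact n.isLt) he)) hne
    have hinj : Function.Injective f := by
      rintro ⟨⟨i, j⟩, k⟩ ⟨⟨i', j'⟩, k'⟩ h
      have h' := (hmemM _).1 (QuotientGroup.eq.1 h)
      have hq : ∀ l : Fin 3, ((b ^ (i : ℕ) * b1 ^ (j : ℕ) * b2 ^ (k : ℕ) : G) : G ⧸ N l) =
          ((b ^ (i' : ℕ) * b1 ^ (j' : ℕ) * b2 ^ (k' : ℕ) : G) : G ⧸ N l) := fun l => QuotientGroup.eq.2 (h' l)
      have hone : ∀ (l : Fin 3) (a : G), a ∈ N l → ((a : G) : G ⧸ N l) = 1 :=
        fun l a ha => (QuotientGroup.eq_one_iff a).2 ha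
      have e0 := hq 0
      have e1 := hq 1
      have e2 := hq 2
      simp only [QuotientGroup.mk_mul, QuotientGroup.mk_pow, hone 0 b1 hb10, hone 0 b2 hb20,
        one_pow, mul_one] at e0
      simp only [QuotientGroup.mk_mul, QuotientGroup.mk_pow, hone 1 b hb1, hone 1 b2 hb21,
        one_pow, mul_one, one_mul] at e1
      simp only [QuotientGroup.mk_mul, QuotientGroup.mk_pow, hone 2 b hb2, hone 2 b1 hb12,
        one_pow, one_mul] at e2
      rw [key 0 b i i' hb0 (QuotientGroup.eq.1 e0), key 1 b1 j j' hb1n (QuotientGroup.eq.1 e1),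
        key 2 b2 k k' hb2n (QuotientGroup.eq.1 e2)]
    have := Nat.card_le_card_of_injective f hinj
    simpa using this
  obtain ⟨D⟩ := (quotient_bound hG hr M hMc hM3).2 (by omega)
  letI : CommGroup (G ⧸ M) :=
    { mul_comm := fun v w => by
        obtain ⟨a, rfl⟩ := QuotientGroup.mk_surjective v
        obtain ⟨c, rfl⟩ := QuotientGroup.mk_surjective w
        rw [← commutatorElement_eq_one_iff_mul_comm]
        exact (QuotientGroup.eq_one_iff ⁅a, c⁆).2 (hMc a c) }
  have hcM : D.c ∈ M := by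
    have h := hMc D.y⁻¹ D.x⁻¹
    have e : ⁅D.y⁻¹, D.x⁻¹⁆ = D.y⁻¹ * (D.x⁻¹ * D.y * D.x) := by
      rw [commutatorElement_def]; group
    rw [e, D.yx, inv_mul_cancel_left] at h
    exact h
  -- the hyperplane
  set H := D.part ⊔ M with hH
  have hzH : D.z ∉ H := by
    intro hz
    have h9 := index_le_nine (x := D.x) (y := D.y) M hMc hM3 (top_le_iff.1 (by
      rw [← D.gen, Subgroup.closure_le]
      rintro w (rfl | rfl | rfl)
      · exact Subgroup.mem_sup_left (Subgroup.subset_closure (by simp))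
      · exact Subgroup.mem_sup_left (Subgroup.subset_closure (by simp))
      · exact hz))
    omega
  have hHn : ∀ g w, g ∈ H → w * g * w⁻¹ ∈ H := fun g w hg => by
    have : w * g * w⁻¹ = ⁅w, g⁆ * g := by rw [commutatorElement_def]; group
    rw [this]
    exact mul_mem (Subgroup.mem_sup_right (hMc w g)) hg
  have huH : ∀ g ∈ H, u g ∈ H := by
    have hle : H ≤ H.comap u.toMonoidHom := by
      refine sup_le ?_ fun g hg => Subgroup.mem_sup_right (huM g hg)
      rw [Product.part, Subgroup.closure_le]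
      have hone : ∀ w, w ^ 3 = 1 → u w ∈ H := fun w hw => by
        refine (sup_le le_sup_left ?_ : D.part ⊔ Subgroup.zpowers D.c ≤ H)
          (D.cube_eq_one_mem hr (by rw [← map_pow, hw, map_one]))
        exact Subgroup.zpowers_le.2 (Subgroup.mem_sup_right hcM)
      rintro w (rfl | rfl)
      · exact hone _ D.x_cube
      · exact hone _ D.y_cube
    exact hle
  -- every element is a power of `z` modulo `H`
  have hdec : ∀ g : G, ∃ k : ℕ, (D.z ^ k)⁻¹ * g ∈ H := by
    intro g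
    obtain ⟨i, j, k, rfl⟩ := D.form g
    refine ⟨k, ?_⟩
    have : (D.z ^ k)⁻¹ * (D.x ^ i * D.y ^ j * D.z ^ k) = D.x ^ i * D.y ^ j := by
      rw [((show Commute (D.x ^ i * D.y ^ j) D.z from Subgroup.mem_center_iff.1 D.z_central _).pow_right k).eq,
        inv_mul_cancel_left]
    rw [this]
    exact Subgroup.mem_sup_left (mul_mem (Subgroup.pow_mem _ (Subgroup.subset_closure (by simp)) i)
      (Subgroup.pow_mem _ (Subgroup.subset_closure (by simp)) j))
  -- `u` fixes `z` modulo `M`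
  obtain ⟨k, hk⟩ : ∃ k : ℕ, u D.z = D.z ^ k := by
    have hmem : u D.z ∈ Subgroup.center G := Subgroup.mem_center_iff.2 fun g => by
      obtain ⟨g, rfl⟩ := u.surjective g
      rw [← map_mul, ← map_mul, Subgroup.mem_center_iff.1 D.z_central g]
    obtain ⟨k, hk⟩ := mem_powers_iff_mem_zpowers.2 (D.center_le hr hmem)
    exact ⟨k, hk.symm⟩
  have hzM : D.z ∉ M := fun h => hzH (Subgroup.mem_sup_right h)
  have hzord : orderOf (D.z : G ⧸ M) = 3 :=
    orderOf_eq_prime (hp := ⟨Nat.prime_three⟩) ((QuotientGroup.eq_one_iff (D.z ^ 3)).2 (hM3 _))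
      fun h => hzM ((QuotientGroup.eq_one_iff _).1 h)
  have hk3 : k % 3 = 1 := by
    have h := (hmemM (u (u (u D.z)) * D.z⁻¹)).2 fun i => hu3 i D.z
    simp only [hk, map_pow, ← pow_mul] at h
    have h1 : (D.z : G ⧸ M) ^ (k * (k * k)) = (D.z : G ⧸ M) ^ 1 := by
      rw [pow_one, ← QuotientGroup.mk_pow, ← mul_inv_eq_one, ← QuotientGroup.mk_inv, ← QuotientGroup.mk_mul]
      exact (QuotientGroup.eq_one_iff _).2 h
    rw [pow_eq_pow_iff_modEq, hzord, Nat.ModEq, Nat.mul_mod, Nat.mul_mod k k] at h1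
    have : k % 3 < 3 := Nat.mod_lt _ (by norm_num)
    interval_cases hh : k % 3 <;> simp_all
  have huz : ((u D.z : G) : G ⧸ M) = (D.z : G ⧸ M) := by
    rw [hk, QuotientGroup.mk_pow, ← pow_mod_orderOf, hzord, hk3, pow_one]
  -- `u g ≡ g` modulo `H`
  have huH' : ∀ g, g⁻¹ * u g ∈ H := by
    intro g
    obtain ⟨m, hm⟩ := hdec g
    set w := (D.z ^ m)⁻¹ * g with hw
    have e : g = D.z ^ m * w := by rw [hw, mul_inv_cancel_left]
    have hz2 : (D.z ^ m)⁻¹ * u (D.z ^ m) ∈ M := QuotientGroup.eq.1 (by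
      rw [map_pow, QuotientGroup.mk_pow, QuotientGroup.mk_pow, huz])
    rw [e, map_mul, mul_inv_rev, mul_assoc, ← mul_assoc (D.z ^ m)⁻¹]
    exact mul_mem (inv_mem hm) (mul_mem (Subgroup.mem_sup_right hz2) (huH _ hm))
  -- the product of the three coordinates lies in `H`
  have hs : b * b1 * b2 ∈ H := by
    have e1 : b1 = b * (b⁻¹ * u b) := by rw [mul_inv_cancel_left]
    have e2 : b2 = b1 * (b1⁻¹ * u b1) := by rw [mul_inv_cancel_left]
    have h1 : b⁻¹ * b1 ∈ H := huH' b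
    have h2 : b⁻¹ * b2 ∈ H := by
      have := mul_mem h1 (huH' b1)
      rwa [mul_assoc, mul_inv_cancel_left] at this
    have e : b * b1 * b2 = b ^ 3 * ((b⁻¹ * (b⁻¹ * b1) * b⁻¹⁻¹) * (b⁻¹ * b2)) := by group
    rw [e]
    exact mul_mem (Subgroup.mem_sup_right (hM3 b)) (mul_mem (hHn _ _ h1) h2)
  -- `z` is a power of this product modulo `M`
  have hcyc : ∃ a : ℕ, (b ^ a)⁻¹ * D.z ∈ N 0 := by
    have hbord : orderOf (b : G ⧸ N 0) = 3 :=
      orderOf_eq_prime (hp := ⟨Nat.prime_three⟩) ((QuotientGroup.eq_one_iff (b ^ 3)).2 (h3 0 b))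
        fun h => hb0 ((QuotientGroup.eq_one_iff _).1 h)
    have htop : Subgroup.zpowers (b : G ⧸ N 0) = ⊤ := Subgroup.eq_top_of_card_eq _ (by
      rw [Nat.card_zpowers, hbord, ← Subgroup.index_eq_card, hidx])
    obtain ⟨a, ha⟩ := mem_powers_iff_mem_zpowers.2 (htop ▸ Subgroup.mem_top (D.z : G ⧸ N 0))
    exact ⟨a, QuotientGroup.eq.1 ha⟩
  obtain ⟨a, ha⟩ := hcyc
  set d := ((b * b1 * b2) ^ a)⁻¹ * D.z with hd
  have hone : ∀ (l : Fin 3) (w : G), w ∈ N l → ((w : G) : G ⧸ N l) = 1 :=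
    fun l w hw => (QuotientGroup.eq_one_iff w).2 hw
  have hd0 : d ∈ N 0 := by
    rw [← QuotientGroup.eq_one_iff] at ha ⊢
    simpa only [hd, QuotientGroup.mk_mul, QuotientGroup.mk_inv, QuotientGroup.mk_pow, hone 0 b1 hb10,
      hone 0 b2 hb20, mul_one] using ha
  have hud : ((u d : G) : G ⧸ M) = (d : G ⧸ M) := by
    have hb3' : ((u b2 : G) : G ⧸ M) = (b : G ⧸ M) := by
      rw [← mul_inv_eq_one, ← QuotientGroup.mk_inv, ← QuotientGroup.mk_mul]
      exact (QuotientGroup.eq_one_iff _).2 ((hmemM _).2 fun i => hu3 i b)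
    simp only [hd, map_mul, map_inv, map_pow, QuotientGroup.mk_mul, QuotientGroup.mk_inv,
      QuotientGroup.mk_pow, huz, hb3', ← hb1def, ← hb2def]
    congr 3
    rw [mul_comm ((b1 : G ⧸ M) * _), mul_assoc]
  have hstep : ∀ i, d ∈ N i → d ∈ N (i + 1) := fun i hi => by
    have h1 := hu i d hi
    have h2 : (u d)⁻¹ * d ∈ N (i + 1) := (hmemM _).1 (QuotientGroup.eq.1 hud) _
    have := mul_mem h1 h2
    rwa [mul_inv_cancel_left] at this
  have hdM : d ∈ M := (hmemM d).2 (forall_three.2 ⟨hd0, hstep 0 hd0, hstep 1 (hstep 0 hd0)⟩)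
  refine hzH ?_
  have := mul_mem (Subgroup.pow_mem _ hs a) (Subgroup.mem_sup_right hdM : d ∈ H)
  rwa [hd, mul_inv_cancel_left] at this

end CfsgLib.Lines85
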