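import Cfsg.Agent.Lib.Lines85.Pair
import Cfsg.Agent.Lib.Lines85.RankTwo
import Cfsg.Agent.Lib.OddOrder.Rank

/-!
A solvable group of odd order acting on an elementary abelian `2`-group with a line: some elementary
abelian subgroup of order `r³` meets the fixer of the four-group of the line in at least `r²`.
-/

set_option autoImplicit false
set_option linter.style.haveILetI false

namespace CfsgLib.Lines85

open CfsgLib.JComp
open scoped commutatorElement

variable {V : Type*} [CommGroup V] [Finite V]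

omit [Finite V] in
theorem map_mul' (U : Subgroup V) (g h : MulAut V) :
    U.map (g * h).toMonoidHom = (U.map h.toMonoidHom).map g.toMonoidHom := by
  rw [Subgroup.map_map]; rfl

omit [Finite V] in
theorem map_one' (U : Subgroup V) : U.map (1 : MulAut V).toMonoidHom = U := Subgroup.map_id U

/-- The block of a line. -/
theorem exists_block (hV : Exp2 V) {Γ : Subgroup (MulAut V)} (hs : Group.IsSolvable Γ)
    (ho : Odd (Nat.card Γ)) {x : MulAut V} (hxΓ : x ∈ Γ) (hx : IsLine x) :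
    ∃ U : Subgroup V, Nat.card U ≤ 8 ∧ mv x ≤ U ∧
      ∀ g ∈ Γ, U.map g.toMonoidHom = U ∨ ∀ v ∈ U, (g * x * g⁻¹) v = v := by
  classical
  haveI := finite_aut (V := V)
  have hconjΓ : ∀ g ∈ Γ, g * x * g⁻¹ ∈ Γ := fun g hg => mul_mem (mul_mem hg hxΓ) (inv_mem hg)
  by_cases hB : ∃ h ∈ Γ, Nat.card ↥(mv x ⊔ mv (h * x * h⁻¹)) = 8
  · obtain ⟨h, hh, h8⟩ := hB
    set y := h * x * h⁻¹ with hy
    have hyl : IsLine y := hx.conj h
    have hyΓ : y ∈ Γ := hconjΓ h hh
    set U := mv x ⊔ mv y with hU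
    refine ⟨U, h8.le, le_sup_left, fun g hg => ?_⟩
    have hgl : IsLine (g * x * g⁻¹) := hx.conj g
    by_cases hle : mv (g * x * g⁻¹) ≤ U
    swap
    · exact Or.inr (triple hV hs ho hxΓ hyΓ (hconjΓ g hg) hx hyl hgl h8 hle)
    left
    have hgy : mv (g * y * g⁻¹) ≤ U := by
      by_contra hnle
      have hgyΓ : g * y * g⁻¹ ∈ Γ := mul_mem (mul_mem hg hyΓ) (inv_mem hg)
      have hfix := triple hV hs ho hxΓ hyΓ hgyΓ hx hyl (hyl.conj g) h8 hnle
      have hne : mv x ⊓ mv y ≠ ⊥ := fun e => by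
        rw [card_sup_of_disjoint e, hx.2, hyl.2] at h8; norm_num at h8
      obtain ⟨⟨m, hm⟩, hm1⟩ := Subgroup.ne_bot_iff_exists_ne_one.1 hne
      have h1 : g m ∈ mv (g * x * g⁻¹) := by rw [mv_conj]; exact ⟨m, hm.1, rfl⟩
      have h2 : g m ∈ mv (g * y * g⁻¹) := by rw [mv_conj]; exact ⟨m, hm.2, rfl⟩
      have h3 := eq_one_of_mem_mv_fx hV (hyl.conj g).odd h2 (hfix _ (hle h1))
      exact hm1 (Subtype.ext (g.injective (h3.trans (map_one g).symm)))
    refine Subgroup.eq_of_le_of_card_ge ?_ (Subgroup.card_map_of_injective g.injective).ge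
    rw [hU, Subgroup.map_sup, ← mv_conj, ← mv_conj]
    exact sup_le hle hgy
  · refine ⟨mv x, by rw [hx.2]; norm_num, le_rfl, fun g hg => ?_⟩
    by_cases he : mv x = mv (g * x * g⁻¹)
    · left; rw [← mv_conj, ← he]
    · right
      exact (pair hV hs ho hxΓ (hconjΓ g hg) hx (hx.conj g) he).resolve_right
        fun h => hB ⟨g, hg, h⟩

variable {K : Type*} [Group K] [Finite K]

/-- The elements fixing a subgroup pointwise. -/
def fixer (ρ : K →* MulAut V) (U : Subgroup V) : Subgroup K where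
  carrier := {k | ∀ v ∈ U, ρ k v = v}
  one_mem' v _ := by rw [map_one]; rfl
  mul_mem' {a b} ha hb v hv := by rw [map_mul, MulAut.mul_apply, hb v hv, ha v hv]
  inv_mem' {a} ha v hv := by
    rw [map_inv]
    calc (ρ a)⁻¹ v = (ρ a)⁻¹ (ρ a v) := by rw [ha v hv]
      _ = v := MulAut.inv_apply_self ..

omit [Finite V] [Finite K] in
theorem mem_fixer {ρ : K →* MulAut V} {U : Subgroup V} {k : K} :
    k ∈ fixer ρ U ↔ ∀ v ∈ U, ρ k v = v := Iff.rfl

omit [Finite V] [Finite K] in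
theorem fixer_anti {ρ : K →* MulAut V} {U U' : Subgroup V} (h : U ≤ U') :
    fixer ρ U' ≤ fixer ρ U := fun _ hk v hv => hk v (h hv)

/-- The setwise stabilizer. -/
def stab (ρ : K →* MulAut V) (U : Subgroup V) : Subgroup K where
  carrier := {k | U.map (ρ k).toMonoidHom = U}
  one_mem' := by
    show U.map (ρ 1).toMonoidHom = U
    rw [map_one]; exact map_one' U
  mul_mem' {a b} (ha : U.map (ρ a).toMonoidHom = U) (hb : U.map (ρ b).toMonoidHom = U) := by
    show U.map (ρ (a * b)).toMonoidHom = U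
    rw [map_mul, map_mul', hb, ha]
  inv_mem' {a} (ha : U.map (ρ a).toMonoidHom = U) := by
    show U.map (ρ a⁻¹).toMonoidHom = U
    conv_lhs => rw [← ha]
    rw [← map_mul', ← map_mul, inv_mul_cancel, map_one]
    exact map_one' U

omit [Finite V] [Finite K] in
theorem mem_stab {ρ : K →* MulAut V} {U : Subgroup V} {k : K} :
    k ∈ stab ρ U ↔ U.map (ρ k).toMonoidHom = U := Iff.rfl

omit [Finite V] [Finite K] in
theorem stab_apply_mem {ρ : K →* MulAut V} {U : Subgroup V} {k : K} (hk : k ∈ stab ρ U) {u : V}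
    (hu : u ∈ U) : ρ k u ∈ U := (mem_stab.1 hk).le ⟨u, hu, rfl⟩

omit [Finite V] [Finite K] in
theorem stab_map (ρ : K →* MulAut V) (U : Subgroup V) (k g : K) :
    g ∈ stab ρ (U.map (ρ k).toMonoidHom) ↔ k⁻¹ * g * k ∈ stab ρ U := by
  have e : U.map (ρ (k⁻¹ * g * k)).toMonoidHom =
      ((U.map (ρ k).toMonoidHom).map (ρ g).toMonoidHom).map (ρ k⁻¹).toMonoidHom := by
    rw [← map_mul', ← map_mul', ← map_mul, ← map_mul]
  rw [mem_stab, mem_stab, e]
  constructor
  · intro h
    rw [h, ← map_mul', ← map_mul, inv_mul_cancel, map_one, map_one']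
  · intro h
    refine Subgroup.map_injective (f := (ρ k⁻¹).toMonoidHom) (ρ k⁻¹).injective (h.trans ?_)
    rw [← map_mul', ← map_mul, inv_mul_cancel, map_one, map_one']

/-- The restriction to an invariant subgroup. -/
noncomputable def toAut (ρ : K →* MulAut V) (U : Subgroup V) (H : Subgroup K) (h : H ≤ stab ρ U) :
    H →* MulAut U :=
  (res (H.map ρ) U (by rintro _ ⟨k, hk, rfl⟩ u hu; exact stab_apply_mem (h hk) hu)).comp
    (ρ.subgroupMap H)

omit [Finite K] in
theorem toAut_apply (ρ : K →* MulAut V) (U : Subgroup V) (H : Subgroup K) (h : H ≤ stab ρ U)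
    (k : H) (u : U) : ((toAut ρ U H h k u : U) : V) = ρ k (u : V) := rfl

omit [Finite K] in
theorem ker_toAut (ρ : K →* MulAut V) (U : Subgroup V) (H : Subgroup K) (h : H ≤ stab ρ U) :
    (toAut ρ U H h).ker = (fixer ρ U).subgroupOf H := by
  ext k
  rw [MonoidHom.mem_ker, Subgroup.mem_subgroupOf, mem_fixer]
  constructor
  · intro hk v hv
    have := congrArg Subtype.val (DFunLike.congr_fun hk ⟨v, hv⟩)
    rwa [toAut_apply] at this
  · intro hk
    ext u
    rw [toAut_apply]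
    exact hk u u.2

omit [Finite K] in
/-- On a small invariant subgroup an elementary abelian or `3`-group is cyclic of prime order. -/
theorem card_range_le (hV : Exp2 V) {r : ℕ} (hr : r.Prime) (hr2 : r ≠ 2) (ρ : K →* MulAut V)
    (U : Subgroup V) (hU : Nat.card U ≤ 8) (H : Subgroup K) (hH : H ≤ stab ρ U) (hp : IsPGroup r H) :
    Nat.card (toAut ρ U H hH).range ≤ r := by
  haveI := Fact.mk hr
  haveI := finite_aut (V := ↥U)
  set R := (toAut ρ U H hH).range with hR
  rcases eq_or_ne R ⊥ with hb | hb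
  · rw [hb, Subgroup.card_bot]; exact hr.pos
  have hRp : IsPGroup r R := hp.of_surjective _ (toAut ρ U H hH).rangeRestrict_surjective
  haveI : Nontrivial R := (Subgroup.nontrivial_iff_ne_bot R).2 hb
  obtain ⟨⟨a, hac⟩, ha⟩ := exists_prime_orderOf_dvd_card' r (G := Subgroup.center R) (by
    haveI := hRp.center_nontrivial
    obtain ⟨n, hn⟩ := IsPGroup.iff_card.1 (hRp.to_subgroup (Subgroup.center R))
    have hn0 : n ≠ 0 := fun h0 => by
      have := Finite.one_lt_card (α := Subgroup.center R)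
      rw [hn, h0, pow_zero] at this
      exact lt_irrefl 1 this
    rw [hn]; exact dvd_pow_self r hn0)
  rw [Subgroup.orderOf_mk] at ha
  have hao : orderOf (a : MulAut U) = r := by rwa [Subgroup.orderOf_coe]
  have hle : R ≤ Subgroup.zpowers (a : MulAut U) := fun b hb =>
    mem_zpowers_small (fun v => Subtype.ext (hV v)) hU hr hr2 hao
      (congrArg Subtype.val (Subgroup.mem_center_iff.1 hac ⟨b, hb⟩))
  refine (Subgroup.card_le_of_le hle).trans ?_
  rw [Nat.card_zpowers, hao]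

/-- An elementary abelian subgroup of order `r³` of the stabilizer of a block is as wanted. -/
theorem inf_fixer_large (hV : Exp2 V) {r : ℕ} [Fact r.Prime] (hr2 : r ≠ 2) (ρ : K →* MulAut V)
    (U : Subgroup V) (hU : Nat.card U ≤ 8) {W : Subgroup V} (hW : W ≤ U) {F : Subgroup K}
    (hF : Cfsg.IsElementaryAbelian r F) (hF3 : Nat.card F = r ^ 3) (hFs : F ≤ stab ρ U) :
    r ^ 2 ≤ Nat.card ↥(F ⊓ fixer ρ W) := by
  have hle := card_range_le hV Fact.out hr2 ρ U hU F hFs (CfsgLib.OddOrder.isPGroup_of_elemAb hF)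
  have h := (toAut ρ U F hFs).ker.card_mul_index
  rw [Subgroup.index_ker, hF3, ker_toAut] at h
  have hcard : Nat.card ((fixer ρ U).subgroupOf F) = Nat.card ↥(F ⊓ fixer ρ U) := by
    rw [← Subgroup.card_map_of_injective F.subtype_injective, Subgroup.subgroupOf_map_subtype,
      inf_comm]
  rw [hcard] at h
  refine le_trans ?_ (Subgroup.card_le_of_le (inf_le_inf_left F (fixer_anti hW)))
  have h2 : r ^ 2 * r ≤ Nat.card ↥(F ⊓ fixer ρ U) * r := by
    rw [← pow_succ, ← h]
    exact Nat.mul_le_mul_left _ hle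
  exact Nat.le_of_mul_le_mul_right h2 (Fact.out : r.Prime).pos

/-- A normal subgroup of index three contains commutators and cubes. -/
theorem index_three {G : Type*} [Group G] {N : Subgroup G} [N.Normal] (h : N.index = 3) :
    (∀ a b : G, ⁅a, b⁆ ∈ N) ∧ ∀ a : G, a ^ 3 ∈ N := by
  haveI : Fact (Nat.Prime 3) := ⟨Nat.prime_three⟩
  have hc : Nat.card (G ⧸ N) = 3 := by rw [← Subgroup.index_eq_card, h]
  refine ⟨fun a b => ?_, fun a => h ▸ N.pow_index_mem a⟩
  haveI := isCyclic_of_prime_card hc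
  rw [← QuotientGroup.eq_one_iff, ← QuotientGroup.mk'_apply, map_commutatorElement,
    commutatorElement_eq_one_iff_mul_comm]
  exact (IsCyclic.isMulCommutative (α := G ⧸ N)).1.comm _ _

/-- The data of a line in the image of `K`. -/
structure Setup (ρ : K →* MulAut V) where
  hV : Exp2 V
  U : Subgroup V
  x₀ : K
  p_x₀ : ∃ i, orderOf x₀ = 3 ^ i
  line : IsLine (ρ x₀)
  card_le : Nat.card U ≤ 8
  mv_le : mv (ρ x₀) ≤ U
  prop : ∀ g : K, g ∈ stab ρ U ∨ ∀ v ∈ U, ρ (g * x₀ * g⁻¹) v = v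

namespace Setup

variable {ρ : K →* MulAut V} (D : Setup ρ)

/-- The block stabilizer. -/
def T : Subgroup K := stab ρ D.U

/-- The translates of the block. -/
def blk (k : K) : Subgroup V := D.U.map (ρ k).toMonoidHom

omit [Finite K] in
theorem x₀_mem_T : D.x₀ ∈ D.T := by
  refine Subgroup.eq_of_le_of_card_ge ?_ (Subgroup.card_map_of_injective (ρ D.x₀).injective).ge
  rintro _ ⟨u, hu, rfl⟩
  exact sup_le D.mv_le le_rfl (apply_mem_sup_mv D.hV _ hu)

omit [Finite K] in
theorem x₀_not_fix : D.x₀ ∉ fixer ρ D.U := by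
  intro h
  obtain ⟨v, hv, hv1⟩ := exists_ne_one_of_card D.line.2 (by norm_num)
  exact hv1 (eq_one_of_mem_mv_fx D.hV D.line.odd hv (h v (D.mv_le hv)))

omit [Finite K] in
theorem x₀_mem_core : D.x₀ ∈ D.T.normalCore := by
  intro b
  rcases D.prop b with h | h
  · exact mul_mem (mul_mem h D.x₀_mem_T) (inv_mem h)
  · show D.U.map (ρ _).toMonoidHom = D.U
    refine Subgroup.eq_of_le_of_card_ge ?_ (Subgroup.card_map_of_injective (ρ _).injective).ge
    rintro _ ⟨u, hu, rfl⟩
    show ρ _ u ∈ D.U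
    rw [h u hu]; exact hu

omit [Finite V] [Finite K] in
theorem core_stab {g : K} (hg : g ∈ D.T.normalCore) (k : K) : g ∈ stab ρ (D.blk k) := by
  rw [blk, stab_map]
  exact Subgroup.normalCore_le D.T (by
    simpa using (Subgroup.normalCore_normal D.T).conj_mem g hg k⁻¹)

/-- The fixer of a block in a subgroup of the core. -/
def N (B : Subgroup K) (k : K) : Subgroup B := (fixer ρ (D.blk k)).subgroupOf B

omit [Finite V] [Finite K] in
theorem N_congr (B : Subgroup K) {k k' : K} (h : k'⁻¹ * k ∈ D.T) : D.N B k = D.N B k' := by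
  have : D.blk k = D.blk k' := by
    have h1 : D.U.map (ρ (k'⁻¹ * k)).toMonoidHom = D.U := h
    rw [blk, blk]
    conv_rhs => rw [← h1, ← map_mul', ← map_mul, mul_inv_cancel_left]
  rw [N, N, this]

variable {B : Subgroup K} (hB : IsPGroup 3 B) (hBL : B ≤ D.T.normalCore)

omit [Finite K] in
include hBL in
theorem N_normal (k : K) : (D.N B k).Normal := by
  have h := ker_toAut ρ (D.blk k) B (fun g hg => D.core_stab (hBL hg) k)
  rw [N, ← h]
  exact MonoidHom.normal_ker _

/-- For each block an element of a Sylow `3`-subgroup of the core moving just that block. -/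
theorem exists_coord (hBmax : ∀ Q : Subgroup K, IsPGroup 3 Q → Q ≤ D.T.normalCore →
      ∃ l ∈ D.T.normalCore, ∀ q ∈ Q, l * q * l⁻¹ ∈ B) (k : K) :
    ∃ b : B, b ∉ D.N B k ∧ ∀ k', k⁻¹ * k' ∉ D.T → b ∈ D.N B k' := by
  haveI : Fact (Nat.Prime 3) := ⟨Nat.prime_three⟩
  obtain ⟨i, hi⟩ := D.p_x₀
  have hmem : k * D.x₀ * k⁻¹ ∈ D.T.normalCore :=
    (Subgroup.normalCore_normal D.T).conj_mem _ D.x₀_mem_core k
  obtain ⟨l, hl, hlB⟩ := hBmax (Subgroup.zpowers (k * D.x₀ * k⁻¹))
    (IsPGroup.of_card (n := i) (by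
      rw [Nat.card_zpowers, ← hi]
      exact orderOf_injective (MulAut.conj k).toMonoidHom (MulAut.conj k).injective D.x₀))
    (Subgroup.zpowers_le.2 hmem)
  have hb := hlB _ (Subgroup.mem_zpowers _)
  refine ⟨⟨_, hb⟩, ?_, ?_⟩
  · intro hfix
    rw [N, Subgroup.mem_subgroupOf, mem_fixer] at hfix
    refine D.x₀_not_fix fun v hv => ?_
    have h1 : ρ l (ρ k v) ∈ D.blk k := stab_apply_mem (D.core_stab hl k) ⟨v, hv, rfl⟩
    have h2 := hfix _ h1
    simp only [map_mul, map_inv, MulAut.mul_apply, MulAut.inv_apply_self] at h2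
    exact (ρ k).injective ((ρ l).injective h2)
  · intro k' hk'
    rw [N, Subgroup.mem_subgroupOf, mem_fixer]
    rintro _ ⟨v, hv, rfl⟩
    show ρ (l * (k * D.x₀ * k⁻¹) * l⁻¹) (ρ k' v) = ρ k' v
    have h1 : (ρ l)⁻¹ (ρ k' v) ∈ D.blk k' := by
      rw [← map_inv]
      exact stab_apply_mem (D.core_stab (inv_mem hl) k') ⟨v, hv, rfl⟩
    obtain ⟨v', hv', hv''⟩ := h1
    have h2 : ∀ u ∈ D.U, ρ (k'⁻¹ * k * D.x₀ * (k'⁻¹ * k)⁻¹) u = u := by
      refine (D.prop (k'⁻¹ * k)).resolve_left fun h => hk' ?_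
      have := inv_mem h
      rwa [mul_inv_rev, inv_inv] at this
    have h3 := h2 v' hv'
    rw [map_mul, map_mul, map_inv, MulAut.mul_apply, MulAut.mul_apply, ← hv'']
    show ρ l (ρ (k * D.x₀ * k⁻¹) (ρ k' v')) = _
    have h4 : ρ (k * D.x₀ * k⁻¹) (ρ k' v') = ρ k' v' := by
      rw [show k * D.x₀ * k⁻¹ = k' * (k'⁻¹ * k * D.x₀ * (k'⁻¹ * k)⁻¹) * k'⁻¹ by group,
        map_mul, map_mul, map_inv, MulAut.mul_apply, MulAut.mul_apply, MulAut.inv_apply_self, h3]
    rw [h4, show ρ k' v' = (ρ l)⁻¹ (ρ k' v) from hv'', MulAut.apply_inv_self]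

include hB hBL in
theorem N_index (k : K) (hne : ∃ b : B, b ∉ D.N B k) : (D.N B k).index = 3 := by
  haveI : Fact (Nat.Prime 3) := ⟨Nat.prime_three⟩
  have hle : Nat.card ↥(D.blk k) ≤ 8 :=
    (Subgroup.card_map_of_injective (ρ k).injective).trans_le D.card_le
  have hs : B ≤ stab ρ (D.blk k) := fun g hg => D.core_stab (hBL hg) k
  have h1 := card_range_le D.hV Nat.prime_three (by norm_num) ρ (D.blk k) hle B hs hB
  rw [← Subgroup.index_ker, ker_toAut] at h1
  haveI := D.N_normal hBL k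
  obtain ⟨m, hm⟩ := hB.index (D.N B k)
  have h1' : (D.N B k).index ≤ 3 := h1
  obtain ⟨b, hb⟩ := hne
  have hm0 : m ≠ 0 := fun h0 => hb (by
    rw [(Subgroup.index_eq_one.1 (by rw [hm, h0, pow_zero]) : D.N B k = ⊤)]; trivial)
  rw [hm] at h1' ⊢
  have h31 : 3 ^ m ≤ 3 ^ 1 := by simpa using h1'
  have hm1 := (Nat.pow_le_pow_iff_right (by norm_num : 1 < 3)).1 h31
  rw [show m = 1 by omega, pow_one]

end Setup

/-- Three blocks are impossible when the rank is at most two. -/
theorem Setup.not_three {ρ : K →* MulAut V} (D : Setup ρ) {B : Subgroup K} (hB : IsPGroup 3 B)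
    (hBL : B ≤ D.T.normalCore) (hr : Cfsg.PRankLE 3 2 B) (hN3 : ∀ k, (D.N B k).index = 3)
    (hcoord : ∀ k, ∃ b : B, b ∉ D.N B k ∧ ∀ k', k⁻¹ * k' ∉ D.T → b ∈ D.N B k') {u : K}
    (huT : u ∉ D.T) (huB : ∀ b ∈ B, u * b * u⁻¹ ∈ B) (hu3T : u ^ 3 ∈ D.T) (hu3B : u ^ 3 ∈ B) :
    False := by
  haveI : ∀ k, (D.N B k).Normal := fun k => D.N_normal hBL k
  -- conjugation by `u`
  have huB' : ∀ b ∈ B, u⁻¹ * b * u ∈ B := by
    intro b hb
    have := (Subgroup.mem_normalizer_iff.1
      (inv_mem (CfsgLib.Coprime.mem_normalizer_of_forall_conj huB)) b).1 hb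
    rwa [inv_inv] at this
  obtain ⟨α, hα⟩ : ∃ α : MulAut B, ∀ b : B, (α b : K) = u * b * u⁻¹ := ⟨
    { toFun := fun b => ⟨u * b * u⁻¹, huB b b.2⟩
      invFun := fun b => ⟨u⁻¹ * b * u, huB' b b.2⟩
      left_inv := fun b => Subtype.ext (by simp [mul_assoc])
      right_inv := fun b => Subtype.ext (by simp [mul_assoc])
      map_mul' := fun b c => Subtype.ext (by simp [mul_assoc]) }, fun _ => rfl⟩
  have hshift : ∀ (k : K) (a : B), a ∈ D.N B k → α a ∈ D.N B (u * k) := by
    intro k a ha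
    rw [Setup.N, Subgroup.mem_subgroupOf, mem_fixer] at ha ⊢
    rintro _ ⟨v, hv, rfl⟩
    show ρ (α a : K) (ρ (u * k) v) = ρ (u * k) v
    rw [hα]
    rw [map_mul, map_mul, map_mul, map_inv, MulAut.mul_apply, MulAut.mul_apply, MulAut.mul_apply,
      MulAut.inv_apply_self, ha (ρ k v) ⟨v, hv, rfl⟩]
  let Nf : Fin 3 → Subgroup B := fun j => D.N B (u ^ (j : ℕ))
  haveI : ∀ j, (Nf j).Normal := fun j => D.N_normal hBL _
  obtain ⟨b, hb1, hb2⟩ := hcoord 1
  have hu2T : u ^ 2 ∉ D.T := fun h => huT (by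
    have := mul_mem hu3T (inv_mem h)
    rwa [pow_succ u 2, mul_assoc, ← mul_assoc (u ^ 2), ← pow_succ, pow_succ', mul_inv_cancel_right] at this)
  have hc3 : ∀ (j : Fin 3) (a c : B), ⁅a, c⁆ ∈ Nf j := fun j a c =>
    (index_three (N := D.N B (u ^ (j : ℕ))) (hN3 _)).1 a c
  have hq3 : ∀ (j : Fin 3) (a : B), a ^ 3 ∈ Nf j := fun j a =>
    (index_three (N := D.N B (u ^ (j : ℕ))) (hN3 _)).2 a
  refine no_three (G := ↥B) hB hr Nf hc3 hq3 α ?_ ?_ b ?_ ?_ ?_ ?_
  · intro j a ha
    have h := hshift _ a ha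
    have hv : ((j + 1 : Fin 3) : ℕ) = ((j : ℕ) + 1) % 3 := by rw [Fin.val_add]; rfl
    have hT' : (u ^ ((j + 1 : Fin 3) : ℕ))⁻¹ * (u * u ^ (j : ℕ)) ∈ D.T := by
      have e : u ^ ((j : ℕ) + 1) = u ^ (((j : ℕ) + 1) % 3) * (u ^ 3) ^ (((j : ℕ) + 1) / 3) := by
        rw [← pow_mul, ← pow_add, Nat.mod_add_div]
      rw [hv, ← pow_succ', e, inv_mul_cancel_left]
      exact Subgroup.pow_mem _ hu3T _
    rw [D.N_congr B hT'] at h
    exact h
  · intro j a
    have e : α (α (α a)) * a⁻¹ = ⁅(⟨u ^ 3, hu3B⟩ : B), a⁆ := Subtype.ext (by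
      show (α (α (α a)) : K) * (a : K)⁻¹ = u ^ 3 * a * (u ^ 3)⁻¹ * (a : K)⁻¹
      rw [hα, hα, hα]
      simp only [pow_succ, pow_zero, one_mul]; group)
    rw [e]
    exact hc3 j _ _
  · exact hb2 _ (by simpa using huT)
  · exact hb2 _ (by simpa using hu2T)
  · show b ∉ D.N B (u ^ 0)
    rw [pow_zero]; exact hb1
  · exact hN3 _


/-- The main theorem. -/
theorem exists_large_fixed (hV : Exp2 V) (ρ : K →* MulAut V) (hK : Group.IsSolvable K)
    (ho : Odd (Nat.card K)) {x₀ : K} (hx₀ : ∃ i, orderOf x₀ = 3 ^ i) (hline : IsLine (ρ x₀))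
    {p : ℕ} [Fact p.Prime] (hp2 : p ≠ 2) {E : Subgroup K} (hE : Cfsg.IsElementaryAbelian p E)
    (hE3 : Nat.card E = p ^ 3) :
    ∃ (r : ℕ) (F : Subgroup K), r.Prime ∧ r ≠ 2 ∧ Cfsg.IsElementaryAbelian r F ∧
      Nat.card F = r ^ 3 ∧ r ^ 2 ≤ Nat.card ↥(F ⊓ fixer ρ (mv (ρ x₀))) := by
  classical
  haveI : Fact (Nat.Prime 3) := ⟨Nat.prime_three⟩
  haveI : Group.IsSolvable ρ.range := Group.isSolvable_of_surjective ρ.rangeRestrict_surjective
  obtain ⟨U, hU8, hWU, hprop⟩ := exists_block hV (Γ := ρ.range) inferInstance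
    (Odd.of_dvd_nat ho (Subgroup.card_range_dvd ρ)) ⟨x₀, rfl⟩ hline
  let D : Setup ρ := ⟨hV, U, x₀, hx₀, hline, hU8, hWU, fun g => by
    rcases hprop (ρ g) ⟨g, rfl⟩ with h | h
    · exact Or.inl h
    · exact Or.inr fun v hv => by rw [map_mul, map_mul, map_inv]; exact h v hv⟩
  rcases eq_or_ne D.T ⊤ with hT | hT
  · exact ⟨p, E, Fact.out, hp2, hE, hE3,
      inf_fixer_large hV hp2 ρ U hU8 hWU hE hE3 (fun g _ => (hT.ge (Subgroup.mem_top g) :))⟩
  set L := D.T.normalCore with hL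
  obtain ⟨P⟩ := (inferInstance : Nonempty (Sylow 3 L))
  set B := (P : Subgroup L).map L.subtype with hBdef
  have hB : IsPGroup 3 B := P.isPGroup'.map _
  have hBL : B ≤ L := Subgroup.map_subtype_le _
  have hBmax : ∀ Q : Subgroup K, IsPGroup 3 Q → Q ≤ L → ∃ l ∈ L, ∀ q ∈ Q, l * q * l⁻¹ ∈ B := by
    intro Q hQ hQL
    obtain ⟨R, hR⟩ := (hQ.comap_subtype (K := L)).exists_le_sylow
    obtain ⟨l, rfl⟩ := MulAction.exists_smul_eq L R P
    refine ⟨l, l.2, fun q hq => ⟨l * ⟨q, hQL hq⟩ * l⁻¹, ?_, by simp⟩⟩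
    rw [Sylow.coe_subgroup_smul]
    exact ⟨⟨q, hQL hq⟩, hR hq, rfl⟩
  by_cases hr : Cfsg.PRankLE 3 2 B
  swap
  · obtain ⟨F, hF, hF3⟩ := CfsgLib.OddOrder.exists_elemAb_of_not_pRankLE hr
    have hF' : Cfsg.IsElementaryAbelian 3 (F.map B.subtype) := CfsgLib.OddOrder.elemAb_map hF _
    have hF3' : Nat.card (F.map B.subtype) = 3 ^ 3 := by
      rw [Subgroup.card_map_of_injective B.subtype_injective, hF3]
    exact ⟨3, F.map B.subtype, Nat.prime_three, by norm_num, hF', hF3',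
      inf_fixer_large hV (by norm_num) ρ U hU8 hWU hF' hF3'
        ((Subgroup.map_subtype_le F).trans (hBL.trans (Subgroup.normalCore_le _)))⟩
  exfalso
  have hcoord := D.exists_coord (B := B) hBmax
  have hN3 : ∀ k, (D.N B k).index = 3 := fun k =>
    D.N_index hB hBL k ⟨_, (hcoord k).choose_spec.1⟩
  haveI hNn : ∀ k, (D.N B k).Normal := fun k => D.N_normal hBL k
  have hNc : ∀ k, (∀ a b : B, ⁅a, b⁆ ∈ D.N B k) ∧ ∀ a : B, a ^ 3 ∈ D.N B k :=
    fun k => index_three (hN3 k)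
  -- the intersection of all fixers
  set M : Subgroup B := ⨅ k, D.N B k with hM
  haveI : M.Normal := ⟨fun g hg w => Subgroup.mem_iInf.2 fun k =>
    (hNn k).conj_mem g (Subgroup.mem_iInf.1 hg k) w⟩
  have h27 := (quotient_bound hB hr M (fun a b => Subgroup.mem_iInf.2 fun k => (hNc k).1 a b)
    (fun a => Subgroup.mem_iInf.2 fun k => (hNc k).2 a)).1
  have hlow : 3 ^ D.T.index ≤ M.index := by
    letI : CommGroup (B ⧸ M) :=
      { mul_comm := fun u v => by
          obtain ⟨a, rfl⟩ := QuotientGroup.mk_surjective u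
          obtain ⟨b, rfl⟩ := QuotientGroup.mk_surjective v
          rw [← commutatorElement_eq_one_iff_mul_comm]
          exact (QuotientGroup.eq_one_iff ⁅a, b⁆).2 (Subgroup.mem_iInf.2 fun k => (hNc k).1 a b) }
    haveI : Fintype (K ⧸ D.T) := Fintype.ofFinite _
    choose b hb1 hb2 using hcoord
    let f : (K ⧸ D.T → Fin 3) → B ⧸ M := fun t => ∏ c, ((b c.out : B) : B ⧸ M) ^ (t c : ℕ)
    have hf : Function.Injective f := by
      intro t t' h
      funext c
      let π : B ⧸ M →* B ⧸ D.N B c.out :=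
        QuotientGroup.map M (D.N B c.out) (MonoidHom.id B) fun g hg => Subgroup.mem_iInf.1 hg _
      letI : CommGroup (B ⧸ D.N B c.out) :=
        { mul_comm := fun u v => by
            obtain ⟨a, rfl⟩ := QuotientGroup.mk_surjective u
            obtain ⟨b, rfl⟩ := QuotientGroup.mk_surjective v
            rw [← commutatorElement_eq_one_iff_mul_comm]
            exact (QuotientGroup.eq_one_iff ⁅a, b⁆).2 ((hNc c.out).1 a b) }
      have hπ : ∀ s : K ⧸ D.T → Fin 3,
          π (f s) = ((b c.out : B) : B ⧸ D.N B c.out) ^ (s c : ℕ) := by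
        intro s
        show π (∏ c', _) = _
        rw [map_prod, Finset.prod_eq_single c]
        · rw [map_pow]; rfl
        · intro c' _ hne
          have hmem : b c'.out ∈ D.N B c.out := hb2 _ _ fun hmem => hne (by
            rw [← QuotientGroup.out_eq' c', ← QuotientGroup.out_eq' c]
            exact QuotientGroup.eq.2 hmem)
          rw [map_pow, show π ((b c'.out : B) : B ⧸ M) = ((b c'.out : B) : B ⧸ D.N B c.out) from rfl,
            (QuotientGroup.eq_one_iff _).2 hmem, one_pow]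
        · intro h; exact absurd (Finset.mem_univ c) h
      have he := congrArg π h
      rw [hπ, hπ] at he
      have hord : orderOf ((b c.out : B) : B ⧸ D.N B c.out) = 3 :=
        orderOf_eq_prime ((QuotientGroup.eq_one_iff (b c.out ^ 3)).2 ((hNc c.out).2 _))
          fun h => hb1 c.out ((QuotientGroup.eq_one_iff _).1 h)
      exact Fin.ext (pow_injOn_Iio_orderOf (by rw [Set.mem_Iio, hord]; exact (t c).isLt)
        (by rw [Set.mem_Iio, hord]; exact (t' c).isLt) he)
    have h := Nat.card_le_card_of_injective f hf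
    rw [Nat.card_fun, Nat.card_fin, ← Subgroup.index_eq_card, ← Subgroup.index_eq_card] at h
    exact h
  -- so the orbit has three blocks
  have hT3 : D.T.index = 3 := by
    have hle : D.T.index ≤ 3 := by
      have : 3 ^ D.T.index ≤ 3 ^ 3 := by simpa using hlow.trans h27
      exact (Nat.pow_le_pow_iff_right (by norm_num : 1 < 3)).1 this
    have hodd : Odd D.T.index := Odd.of_dvd_nat ho D.T.index_dvd_card
    have h1 : D.T.index ≠ 1 := fun h => hT (Subgroup.index_eq_one.1 h)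
    interval_cases D.T.index <;> first | rfl | omega | exact absurd hodd (by decide)
  haveI hTn : D.T.Normal := by
    refine Subgroup.normal_of_index_eq_minFac_card ?_
    rw [hT3]
    have hne1 : Nat.card K ≠ 1 := fun h => by
      have := D.T.index_dvd_card
      rw [hT3, h] at this
      norm_num at this
    refine le_antisymm ?_ (Nat.minFac_le_of_dvd (by norm_num) (hT3 ▸ D.T.index_dvd_card))
    have h2 := (Nat.minFac_prime hne1).two_le
    have hne2 : (Nat.card K).minFac ≠ 2 := fun h => by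
      have hd := Nat.minFac_dvd (Nat.card K)
      rw [h] at hd
      have := Nat.odd_iff.1 ho
      omega
    omega
  have hLT : L = D.T := Subgroup.normalCore_eq_self D.T
  -- a `3`-element outside the stabilizer normalising `B`
  obtain ⟨u, huT, huB, i, hui⟩ : ∃ u : K, u ∉ D.T ∧ (∀ b ∈ B, u * b * u⁻¹ ∈ B) ∧
      ∃ i, orderOf u = 3 ^ i := by
    haveI : L.Normal := Subgroup.normalCore_normal D.T
    have hfr := P.normalizer_sup_eq_top
    obtain ⟨g, hgN, hgT⟩ : ∃ g, g ∈ Subgroup.normalizer (B : Set K) ∧ g ∉ D.T := by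
      by_contra! h
      exact hT (top_le_iff.1 (hfr.ge.trans (sup_le h hLT.le)))
    obtain ⟨i, m, hm, hgo⟩ := Nat.exists_eq_pow_mul_and_not_dvd (orderOf_pos g).ne' 3 (by norm_num)
    refine ⟨g ^ m, fun h => hgT ?_, ?_, i, ?_⟩
    · have hcop : m.Coprime 3 := ((Nat.Prime.coprime_iff_not_dvd Nat.prime_three).2 hm).symm
      have h3 : g ^ 3 ∈ D.T := hT3 ▸ D.T.pow_index_mem g
      obtain ⟨a, b, hab⟩ : ∃ a b : ℤ, (m : ℤ) * a + ((3 : ℕ) : ℤ) * b = 1 :=
        ⟨Nat.gcdA m 3, Nat.gcdB m 3, by rw [← Nat.gcd_eq_gcd_ab, hcop.gcd_eq_one]; rfl⟩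
      have := mul_mem (D.T.zpow_mem h a) (D.T.zpow_mem h3 b)
      rwa [← zpow_natCast, ← zpow_natCast, ← zpow_mul, ← zpow_mul, ← zpow_add, hab, zpow_one]
        at this
    · intro b hb
      exact (Subgroup.mem_normalizer_iff.1 (Subgroup.pow_mem _ hgN m) b).1 hb
    · have hm0 : 0 < m := by
        rcases Nat.eq_zero_or_pos m with h | h
        · exact absurd (h ▸ dvd_zero 3) hm
        · exact h
      rw [orderOf_pow, hgo, Nat.gcd_eq_right (Dvd.intro_left _ rfl), Nat.mul_div_cancel _ hm0]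
  have hu3T : u ^ 3 ∈ D.T := hT3 ▸ D.T.pow_index_mem u
  have hu3B : u ^ 3 ∈ B := by
    set Q := B ⊔ Subgroup.zpowers (u ^ 3) with hQ
    have hn : Subgroup.zpowers (u ^ 3) ≤ Subgroup.normalizer (B : Set K) := by
      rw [Subgroup.zpowers_le]
      exact Subgroup.pow_mem _ (CfsgLib.Coprime.mem_normalizer_of_forall_conj huB) 3
    have hQp : IsPGroup 3 Q := IsPGroup.to_sup_of_normal_left' hB
      ((IsPGroup.of_card (n := i) (by rw [Nat.card_zpowers, hui]) : IsPGroup 3 (Subgroup.zpowers u)).to_le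
        (Subgroup.zpowers_le.2 (Subgroup.pow_mem _ (Subgroup.mem_zpowers u) 3))) hn
    obtain ⟨l, -, hlQ⟩ := hBmax Q hQp (sup_le hBL (Subgroup.zpowers_le.2 (hLT ▸ hu3T)))
    have hle : Nat.card Q ≤ Nat.card B :=
      Nat.card_le_card_of_injective (fun q : Q => (⟨l * q * l⁻¹, hlQ q q.2⟩ : B)) fun q q' h =>
        Subtype.ext (mul_left_cancel (mul_right_cancel (congrArg Subtype.val h)))
    rw [Subgroup.eq_of_le_of_card_ge le_sup_left hle]
    exact Subgroup.mem_sup_right (Subgroup.mem_zpowers _)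
  exact D.not_three hB hBL hr hN3 hcoord huT huB hu3T hu3B

end CfsgLib.Lines85
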