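import Cfsg.Agent.Lib.LocalEven.JComp.FFSolvable
import Cfsg.Agent.Lib.Solvable.MinNormal

/-!
Two lines (elements of order three moving a four-group) in a solvable group of odd order acting on
an elementary abelian `2`-group.
-/

set_option autoImplicit false
set_option linter.style.haveILetI false

namespace CfsgLib.Lines85

open CfsgLib.JComp

variable {V : Type*} [CommGroup V] [Finite V]

theorem finite_aut : Finite (MulAut V) := Finite.of_injective _ DFunLike.coe_injective

omit [Finite V] in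
theorem pow_apply_eq_self {x : MulAut V} {v : V} (h : x v = v) : ∀ k : ℕ, (x ^ k) v = v
  | 0 => rfl
  | k + 1 => by rw [pow_succ, MulAut.mul_apply, h, pow_apply_eq_self h k]

omit [Finite V] in
theorem mv_pow_le (hV : Exp2 V) (x : MulAut V) (k : ℕ) : mv (x ^ k) ≤ mv x := by
  rintro _ ⟨v, rfl⟩
  induction k with
  | zero => rw [dv_apply, pow_zero, MulAut.one_apply, hV]; exact one_mem _
  | succ k ih =>
    have e : dv (x ^ (k + 1)) v = dv x ((x ^ k) v) * dv (x ^ k) v := by
      rw [dv_apply, dv_apply, dv_apply, pow_succ', MulAut.mul_apply, mul_assoc,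
        ← mul_assoc ((x ^ k) v), hV, one_mul]
    rw [e]
    exact mul_mem (dv_mem_mv x _) ih

/-- The number of fixed points of an element of prime order. -/
theorem card_fx_modEq {r : ℕ} (hr : r.Prime) {a : MulAut V} (ha : orderOf a = r) :
    Nat.card V ≡ Nat.card ↥(fx a) [MOD r] := by
  haveI := Fact.mk hr
  have hP : IsPGroup r (Subgroup.zpowers a) :=
    IsPGroup.of_card (n := 1) (by rw [Nat.card_zpowers, ha, pow_one])
  have h := hP.card_modEq_card_fixedPoints V
  have e : MulAction.fixedPoints (Subgroup.zpowers a) V = ((fx a : Subgroup V) : Set V) := by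
    ext v
    refine ⟨fun h => h ⟨a, Subgroup.mem_zpowers a⟩, fun (h : a v = v) g => ?_⟩
    obtain ⟨k, hk⟩ := Subgroup.mem_zpowers_iff.1 g.2
    show (g : MulAut V) v = v
    rw [← hk]
    haveI := finite_aut (V := V)
    obtain ⟨n, hn⟩ := mem_powers_iff_mem_zpowers.2 (Subgroup.zpow_mem_zpowers a k)
    rw [← hn]
    exact pow_apply_eq_self h n
  rwa [e] at h

theorem fx_ne_top {a : MulAut V} (ha : a ≠ 1) : fx a ≠ ⊤ := fun h =>
  ha (MulEquiv.ext fun v => (h ▸ Subgroup.mem_top v : v ∈ fx a))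

theorem exists_two_pow (hV : Exp2 V) (U : Subgroup V) : ∃ k, Nat.card U = 2 ^ k := by
  haveI : Fact (Nat.Prime 2) := ⟨Nat.prime_two⟩
  exact IsPGroup.iff_card.1 ((IsPGroup.of_card (p := 2) (n := Nat.log 2 (Nat.card V)) (by
    obtain ⟨k, hk⟩ := (IsPGroup.iff_card (p := 2) (G := V)).1 fun v => ⟨1, by rw [pow_one, pow_two, hV]⟩
    rw [hk, Nat.log_pow one_lt_two])).to_subgroup U)

/-- The possible numbers of fixed points. -/
theorem card_fx_cases (hV : Exp2 V) {a : MulAut V} (ha : a ≠ 1) {N : ℕ} (hN : Nat.card V = 2 ^ N) :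
    ∃ k, k < N ∧ Nat.card ↥(fx a) = 2 ^ k := by
  obtain ⟨k, hk⟩ := exists_two_pow hV (fx a)
  refine ⟨k, ?_, hk⟩
  have h1 : Nat.card ↥(fx a) < Nat.card V :=
    lt_of_le_of_ne (Subgroup.card_le_card_group _) fun e => fx_ne_top ha (Subgroup.eq_top_of_card_eq _ e)
  rw [hk, hN] at h1
  exact (Nat.pow_lt_pow_iff_right one_lt_two).1 h1

/-- On at most eight points an element of odd prime order is self-centralizing. -/
theorem mem_zpowers_small (hV : Exp2 V) (hle : Nat.card V ≤ 8) {r : ℕ} (hr : r.Prime) (hr2 : r ≠ 2)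
    {a b : MulAut V} (ha : orderOf a = r) (hab : b * a = a * b) : b ∈ Subgroup.zpowers a := by
  classical
  haveI := finite_aut (V := V)
  have ha1 : a ≠ 1 := fun h => hr.ne_one (by rw [← ha, h, orderOf_one])
  have hodd : Odd (orderOf a) := by rw [ha]; exact hr.odd_of_ne_two hr2
  obtain ⟨N, hN⟩ := exists_two_pow hV (⊤ : Subgroup V)
  rw [Subgroup.card_top] at hN
  have hN3 : N ≤ 3 := (Nat.pow_le_pow_iff_right one_lt_two).1 (by rw [← hN]; exact hle)
  obtain ⟨k, hkN, hk⟩ := card_fx_cases hV ha1 hN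
  have hmv : Nat.card ↥(mv a) = 2 ^ (N - k) := by
    have h := card_mv_mul_card_fx hV a
    rw [hk, hN, ← Nat.sub_add_cancel hkN.le, pow_add] at h
    exact Nat.eq_of_mul_eq_mul_right (by positivity) h
  have hmod := card_fx_modEq hr ha
  rw [hN, hk] at hmod
  have hr3 : 3 ≤ r := by have := hr.two_le; omega
  have hNk : N - k ≠ 1 := by
    intro h1
    obtain ⟨v, hv, hv1⟩ := exists_ne_one_of_card (hmv.trans (by rw [h1]; rfl)) le_rfl
    have hav : a v ∈ mv a := apply_mem_mv rfl hv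
    refine hv1 (eq_one_of_mem_mv_fx hV hodd hv ?_)
    have h2 : ({1, v} : Set V) = mv a := by
      refine Set.eq_of_subset_of_ncard_le ?_ ?_
      · rintro z (rfl | rfl)
        · exact one_mem _
        · exact hv
      · rw [Set.ncard_pair (Ne.symm hv1), ← Nat.card_coe_set_eq]
        exact (hmv.trans (by rw [h1]; rfl)).le
    have h3 : a v ∈ ({1, v} : Set V) := h2 ▸ hav
    rcases h3 with h3 | h3
    · exact absurd (a.injective (h3.trans (map_one a).symm)) hv1
    · exact h3
  rcases Nat.lt_or_ge (N - k) 3 with h2 | h3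
  · -- a line
    have h4 : Nat.card ↥(mv a) = 4 := by rw [hmv, show N - k = 2 by omega]; rfl
    refine mem_zpowers_of_comm hV (isLine_of_card hV hodd h4) hab fun v hv => ?_
    rcases eq_or_ne v 1 with rfl | hv1
    · exact map_one b
    have hbv : b v ∈ fx a := apply_mem_fx hab hv
    have hk1 : k ≤ 1 := by omega
    have h2 : ({1, v} : Set V) = fx a := by
      refine Set.eq_of_subset_of_ncard_le ?_ ?_
      · rintro z (rfl | rfl)
        · exact one_mem _
        · exact hv
      · rw [Set.ncard_pair (Ne.symm hv1), ← Nat.card_coe_set_eq]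
        exact hk.le.trans (Nat.pow_le_pow_right (by norm_num) hk1)
    have h3 : b v ∈ ({1, v} : Set V) := h2 ▸ hbv
    rcases h3 with h3 | h3
    · exact absurd (b.injective (h3.trans (map_one b).symm)) hv1
    · exact h3
  · -- order seven
    obtain rfl : N = 3 := by omega
    obtain rfl : k = 0 := by omega
    have hr7 : r = 7 := by
      have h7 : r ∣ 7 := (Nat.modEq_iff_dvd' (by norm_num)).1 hmod.symm
      exact (Nat.prime_dvd_prime_iff_eq hr (by norm_num)).1 h7
    subst hr7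
    have hfix : ∀ w, a w = w → w = 1 := fun w hw => by
      have h1 : fx a = ⊥ := Subgroup.card_eq_one.1 (hk.trans (pow_zero 2))
      exact (Subgroup.eq_bot_iff_forall _).1 h1 w hw
    obtain ⟨v, -, hv1⟩ := exists_ne_one_of_card (U := (⊤ : Subgroup V))
      (Subgroup.card_top.trans hN) (by norm_num)
    have hne : ∀ i : Fin 7, (a ^ (i : ℕ)) v ≠ 1 := fun i h =>
      hv1 ((a ^ (i : ℕ)).injective (h.trans (map_one _).symm))
    let f : Fin 7 → {w : V // w ≠ 1} := fun i => ⟨(a ^ (i : ℕ)) v, hne i⟩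
    have hf : Function.Injective f := by
      have key : ∀ i j : ℕ, i < j → j < 7 → (a ^ i) v ≠ (a ^ j) v := by
        intro i j hij hj7 h
        have h1 : (a ^ (j - i)) v = v := by
          apply (a ^ i).injective
          rw [← MulAut.mul_apply, ← pow_add, Nat.add_sub_cancel' hij.le, ← h]
        have hgen : a ∈ Subgroup.zpowers (a ^ (j - i)) := by
          have hco : (j - i).Coprime (orderOf a) := by
            rw [ha]
            exact ((Nat.Prime.coprime_iff_not_dvd hr).2 (fun hd => by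
              have := Nat.le_of_dvd (by omega) hd; omega)).symm
          obtain ⟨t, ht⟩ := exists_pow_eq_self_of_coprime hco
          exact ⟨(t : ℤ), by show (a ^ (j - i)) ^ (t : ℤ) = a; rw [zpow_natCast, ht]⟩
        obtain ⟨t, ht⟩ := mem_powers_iff_mem_zpowers.2 hgen
        have ht' : ((a ^ (j - i)) ^ t) v = a v := congrArg (fun g : MulAut V => g v) ht
        rw [pow_apply_eq_self h1] at ht'
        exact hv1 (hfix v ht'.symm)
      intro i j h
      have h' : (a ^ (i : ℕ)) v = (a ^ (j : ℕ)) v := congrArg Subtype.val h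
      rcases lt_trichotomy (i : ℕ) j with h1 | h1 | h1
      · exact absurd h' (key _ _ h1 j.isLt)
      · exact Fin.ext h1
      · exact absurd h'.symm (key _ _ h1 i.isLt)
    have hsurj : Function.Surjective f := by
      haveI : Fintype V := Fintype.ofFinite V
      refine ((Fintype.bijective_iff_injective_and_card f).2 ⟨hf, ?_⟩).2
      rw [Fintype.card_fin, Fintype.card_subtype_compl, Fintype.card_subtype_eq,
        Fintype.card_eq_nat_card, hN]
      rfl
    obtain ⟨i, hi⟩ := hsurj ⟨b v, fun h => hv1 (b.injective (h.trans (map_one b).symm))⟩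
    have hi' : (a ^ (i : ℕ)) v = b v := congrArg Subtype.val hi
    suffices b = a ^ (i : ℕ) by rw [this]; exact Subgroup.npow_mem_zpowers a i
    ext w
    rcases eq_or_ne w 1 with rfl | hw
    · simp
    obtain ⟨j, hj⟩ := hsurj ⟨w, hw⟩
    have hj' : (a ^ (j : ℕ)) v = w := congrArg Subtype.val hj
    rw [← hj']
    have hc : Commute b (a ^ (j : ℕ)) := (show Commute b a from hab).pow_right _
    calc b ((a ^ (j : ℕ)) v) = (a ^ (j : ℕ)) (b v) := by rw [← MulAut.mul_apply, hc.eq, MulAut.mul_apply]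
      _ = (a ^ (i : ℕ)) ((a ^ (j : ℕ)) v) := by
        rw [← hi', ← MulAut.mul_apply, ← MulAut.mul_apply, ← pow_add, ← pow_add, add_comm]

/-- Restriction to an invariant subgroup. -/
noncomputable def res (Γ : Subgroup (MulAut V)) (U : Subgroup V)
    (h : ∀ g ∈ Γ, ∀ u ∈ U, g u ∈ U) : Γ →* MulAut U where
  toFun g := MulEquiv.ofBijective
    ({ toFun := fun u => ⟨(g : MulAut V) (u : V), h g g.2 u u.2⟩
       map_one' := Subtype.ext (map_one (g : MulAut V))
       map_mul' := fun u v => Subtype.ext (map_mul (g : MulAut V) (u : V) (v : V)) } : U →* U)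
    (Finite.injective_iff_bijective.1 fun u v huv =>
      Subtype.ext ((g : MulAut V).injective (congrArg Subtype.val huv)))
  map_one' := MulEquiv.ext fun _ => rfl
  map_mul' _ _ := MulEquiv.ext fun _ => rfl

@[simp] theorem res_apply (Γ : Subgroup (MulAut V)) (U : Subgroup V)
    (h : ∀ g ∈ Γ, ∀ u ∈ U, g u ∈ U) (g : Γ) (u : U) :
    ((res Γ U h g u : U) : V) = (g : MulAut V) (u : V) := rfl

/-- A line moves its four-group onto itself. -/
theorem exists_dv_eq (hV : Exp2 V) {x : MulAut V} (hx : IsLine x) {w : V} (hw : w ∈ mv x) :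
    ∃ u ∈ mv x, dv x u = w := by
  have hinj : Function.Injective
      (fun u : mv x => (⟨dv x u, dv_mem_mv x u⟩ : mv x)) := by
    intro u v h
    have h' : dv x u = dv x v := congrArg Subtype.val h
    apply Subtype.ext
    have h1 : dv x ((u : V) * v) = 1 := by rw [map_mul, h', hV]
    have h2 := eq_one_of_mem_mv_fx hV hx.odd (mul_mem u.2 v.2) ((dv_eq_one_iff hV).1 h1)
    calc (u : V) = u * (v * v) := by rw [hV, mul_one]
      _ = v := by rw [← mul_assoc, h2, one_mul]
  obtain ⟨u, hu⟩ := (Finite.injective_iff_surjective.1 hinj) ⟨w, hw⟩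
  exact ⟨u, u.2, congrArg Subtype.val hu⟩

theorem res_isLine (hV : Exp2 V) (Γ : Subgroup (MulAut V)) (U : Subgroup V)
    (h : ∀ g ∈ Γ, ∀ u ∈ U, g u ∈ U) {x : Γ} (hx : IsLine (x : MulAut V))
    (hU : mv (x : MulAut V) ≤ U) :
    IsLine (res Γ U h x) ∧ (mv (res Γ U h x)).map U.subtype = mv (x : MulAut V) := by
  have hmv : (mv (res Γ U h x)).map U.subtype = mv (x : MulAut V) := by
    refine le_antisymm ?_ fun w hw => ?_
    · rintro _ ⟨_, ⟨u, rfl⟩, rfl⟩
      exact dv_mem_mv _ _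
    · obtain ⟨u, hu, huw⟩ := exists_dv_eq hV hx hw
      exact ⟨dv (res Γ U h x) ⟨u, hU hu⟩, dv_mem_mv _ _, huw⟩
  have hcard : Nat.card ↥(mv (res Γ U h x)) = 4 := by
    rw [← Subgroup.card_map_of_injective U.subtype_injective, hmv, hx.2]
  refine ⟨isLine_of_card (fun v => Subtype.ext (hV v)) ?_ hcard, hmv⟩
  have h1 := orderOf_map_dvd (res Γ U h) x
  rw [← Subgroup.orderOf_coe, hx.1] at h1
  exact Odd.of_dvd_nat (by decide) h1

omit [Finite V] in
theorem line_le_of_meet [Finite V] (hV : Exp2 V) {x : MulAut V} (hx : IsLine x) {F : Subgroup V}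
    (hF : ∀ u ∈ F, x u ∈ F) (hne : mv x ⊓ F ≠ ⊥) : mv x ≤ F := by
  obtain ⟨⟨v, hv⟩, hv1⟩ := Subgroup.ne_bot_iff_exists_ne_one.1 hne
  have hv1' : v ≠ 1 := fun h => hv1 (Subtype.ext h)
  obtain ⟨h1, h2, h3, -⟩ := hx.exists_cycle hV hv.1 hv1'
  intro u hu
  rcases four_cases hV hx.2 hv.1 h1 hv1' h2 h3 hu with rfl | rfl | rfl | rfl
  · exact one_mem _
  · exact hv.2
  · exact hF v hv.2
  · exact mul_mem hv.2 (hF v hv.2)

/-- A line respects an invariant decomposition. -/
theorem line_side (hV : Exp2 V) {x : MulAut V} (hx : IsLine x) {F M : Subgroup V}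
    (hF : ∀ u ∈ F, x u ∈ F) (hM : ∀ u ∈ M, x u ∈ M) (hsup : F ⊔ M = ⊤) (hinf : F ⊓ M = ⊥) :
    (mv x ≤ F ∧ ∀ u ∈ M, x u = u) ∨ (mv x ≤ M ∧ ∀ u ∈ F, x u = u) := by
  have hfix : ∀ A : Subgroup V, (∀ u ∈ A, x u ∈ A) → mv x ⊓ A = ⊥ → ∀ u ∈ A, x u = u := by
    intro A hA h u hu
    rw [← dv_eq_one_iff hV]
    exact (Subgroup.eq_bot_iff_forall _).1 h _ ⟨dv_mem_mv x u, mul_mem (hA u hu) hu⟩
  by_cases h : mv x ⊓ F = ⊥
  · right
    refine ⟨?_, hfix F hF h⟩
    rintro _ ⟨v, rfl⟩
    obtain ⟨f, hf, m, hm, rfl⟩ := exists_mul_of_sup (hsup.ge (Subgroup.mem_top v))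
    rw [map_mul, (dv_eq_one_iff hV).2 (hfix F hF h f hf), one_mul]
    exact mul_mem (hM m hm) hm
  · left
    have hle := line_le_of_meet hV hx hF h
    exact ⟨hle, hfix M hM (le_bot_iff.1 ((inf_le_inf_right M hle).trans hinf.le))⟩

section Sixteen

variable (hV : Exp2 V) (h16 : Nat.card V = 16) {x y : MulAut V} (hx : IsLine x) (hy : IsLine y)
  (hxy : mv x ⊓ mv y = ⊥)

include hV h16 hx hy hxy

theorem sup_eq_top : mv x ⊔ mv y = ⊤ :=
  Subgroup.eq_top_of_card_eq _ (by rw [card_sup_of_disjoint hxy, hx.2, hy.2, h16])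

theorem comm_of_decomposition {F M : Subgroup V} (hxF : ∀ u ∈ F, x u ∈ F) (hxM : ∀ u ∈ M, x u ∈ M)
    (hyF : ∀ u ∈ F, y u ∈ F) (hyM : ∀ u ∈ M, y u ∈ M) (hsup : F ⊔ M = ⊤) (hinf : F ⊓ M = ⊥)
    (hFt : F ≠ ⊤) (hMt : M ≠ ⊤) : x * y = y * x := by
  have key : ∀ {a b : MulAut V}, (∀ u ∈ F, a u ∈ F) → (∀ u ∈ M, b u ∈ M) →
      (∀ u ∈ M, a u = u) → (∀ u ∈ F, b u = u) → a * b = b * a := by
    intro a b haF hbM ha hb
    ext v
    obtain ⟨f, hf, m, hm, rfl⟩ := exists_mul_of_sup (hsup.ge (Subgroup.mem_top v))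
    simp only [MulAut.mul_apply, map_mul, hb f hf, ha m hm, hb _ (haF f hf), ha _ (hbM m hm)]
  rcases line_side hV hx hxF hxM hsup hinf with ⟨hxl, hxf⟩ | ⟨hxl, hxf⟩ <;>
    rcases line_side hV hy hyF hyM hsup hinf with ⟨hyl, hyf⟩ | ⟨hyl, hyf⟩
  · exact absurd (top_le_iff.1 ((sup_eq_top hV h16 hx hy hxy).ge.trans (sup_le hxl hyl))) hFt
  · exact key hxF hyM hxf hyf
  · exact (key hyF hxM hyf hxf).symm
  · exact absurd (top_le_iff.1 ((sup_eq_top hV h16 hx hy hxy).ge.trans (sup_le hxl hyl))) hMt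

/-- An element of prime order whose cyclic group both lines normalise, with fixed points. -/
theorem comm_of_fixed {r : ℕ} (hr : r.Prime) (hr2 : r ≠ 2) {d : MulAut V} (hd : orderOf d = r)
    (hdx : x⁻¹ * d * x ∈ Subgroup.zpowers d) (hdx' : x * d * x⁻¹ ∈ Subgroup.zpowers d)
    (hdy : y⁻¹ * d * y ∈ Subgroup.zpowers d) (hdy' : y * d * y⁻¹ ∈ Subgroup.zpowers d)
    (hfix : fx d ≠ ⊥) : x * y = y * x := by
  haveI := finite_aut (V := V)
  have hodd : Odd (orderOf d) := by rw [hd]; exact hr.odd_of_ne_two hr2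
  have hd1 : d ≠ 1 := fun h => hr.ne_one (by rw [← hd, h, orderOf_one])
  have inv : ∀ g : MulAut V, g⁻¹ * d * g ∈ Subgroup.zpowers d → g * d * g⁻¹ ∈ Subgroup.zpowers d →
      (∀ u ∈ fx d, g u ∈ fx d) ∧ (∀ u ∈ mv d, g u ∈ mv d) := by
    intro g h1 h2
    obtain ⟨k, hk⟩ := mem_powers_iff_mem_zpowers.2 h1
    obtain ⟨l, hl⟩ := mem_powers_iff_mem_zpowers.2 h2
    refine ⟨fun u hu => ?_, fun u hu => ?_⟩
    · have hk' : d * g = g * d ^ k := by
        rw [show d ^ k = g⁻¹ * d * g from hk]; group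
      show d (g u) = g u
      rw [← MulAut.mul_apply, hk', MulAut.mul_apply, pow_apply_eq_self hu]
    · have h3 : g u ∈ mv (g * d * g⁻¹) := by rw [mv_conj]; exact ⟨u, hu, rfl⟩
      rw [show g * d * g⁻¹ = d ^ l from hl.symm] at h3
      exact mv_pow_le hV d l h3
  obtain ⟨h1, h2⟩ := inv x hdx hdx'
  obtain ⟨h3, h4⟩ := inv y hdy hdy'
  refine comm_of_decomposition hV h16 hx hy hxy h1 h2 h3 h4 ?_ ?_ (fx_ne_top hd1) ?_
  · rw [sup_comm]; exact mv_sup_fx hV hodd
  · rw [inf_comm]; exact mv_inf_fx hV hodd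
  · intro h
    have h' := mv_inf_fx hV hodd
    rw [h, top_inf_eq] at h'
    exact hfix h'

omit hy hxy in
theorem fx_line_card : Nat.card ↥(fx x) = 4 := by
  have h := card_mv_mul_card_fx hV x
  rw [hx.2, h16] at h
  omega

omit hy hxy in
theorem orderOf_five_no_comm {d : MulAut V} (hd : orderOf d = 5) (hfix : fx d = ⊥)
    (hc : d * x = x * d) : False := by
  classical
  obtain ⟨v, hv, hv1⟩ := exists_ne_one_of_card (fx_line_card hV h16 hx) (by norm_num)
  have hmem : ∀ i : ℕ, (d ^ i) v ∈ fx x := by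
    intro i
    induction i with
    | zero => exact hv
    | succ i ih => rw [pow_succ', MulAut.mul_apply]; exact apply_mem_fx hc ih
  have hfix' : ∀ w, d w = w → w = 1 := fun w hw => (Subgroup.eq_bot_iff_forall _).1 hfix w hw
  haveI : Fintype V := Fintype.ofFinite V
  have hne : ∀ i, 1 ≤ i → i < 5 → (d ^ i) v ≠ v := by
    intro i hi1 hi5 h
    have hco : i.Coprime (orderOf d) := by
      rw [hd]
      exact ((Nat.Prime.coprime_iff_not_dvd (by norm_num)).2 (fun hdv => by
        have := Nat.le_of_dvd hi1 hdv; omega)).symm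
    obtain ⟨t, ht⟩ := exists_pow_eq_self_of_coprime hco
    have ht' : ((d ^ i) ^ t) v = d v := congrArg (fun g : MulAut V => g v) ht
    rw [pow_apply_eq_self h] at ht'
    exact hv1 (hfix' v ht'.symm)
  let f : Fin 5 → ↥(fx x) := fun i => ⟨(d ^ (i : ℕ)) v, hmem i⟩
  have hf : Function.Injective f := by
    intro i j h
    have h' : (d ^ (i : ℕ)) v = (d ^ (j : ℕ)) v := congrArg Subtype.val h
    rcases lt_trichotomy (i : ℕ) j with h1 | h1 | h1
    · refine absurd ?_ (hne ((j : ℕ) - i) (by omega) (by omega))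
      apply (d ^ (i : ℕ)).injective
      rw [← MulAut.mul_apply, ← pow_add, Nat.add_sub_cancel' h1.le, ← h']
    · exact Fin.ext h1
    · refine absurd ?_ (hne ((i : ℕ) - j) (by omega) (by omega))
      apply (d ^ (j : ℕ)).injective
      rw [← MulAut.mul_apply, ← pow_add, Nat.add_sub_cancel' h1.le, h']
  have := Nat.card_le_card_of_injective f hf
  rw [fx_line_card hV h16 hx, Nat.card_fin] at this
  omega

omit hy hxy in
/-- An element of order five whose group a line normalises commutes with it: impossible. -/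
theorem five_false {d : MulAut V} (hd : orderOf d = 5) (hfix : fx d = ⊥)
    (hn : x * d * x⁻¹ ∈ Subgroup.zpowers d) : False := by
  haveI := finite_aut (V := V)
  refine orderOf_five_no_comm hV h16 hx hd hfix ?_
  obtain ⟨j, hj⟩ := mem_powers_iff_mem_zpowers.2 hn
  have hj' : x * d * x⁻¹ = d ^ j := hj.symm
  have h3 : d = d ^ (j * j * j) := by
    calc d = (x * x * x) * d * (x * x * x)⁻¹ := by rw [hx.cube]; group
      _ = x * (x * (x * d * x⁻¹) * x⁻¹) * x⁻¹ := by group
      _ = d ^ (j * j * j) := by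
        rw [hj', ← conj_pow, hj', ← pow_mul, ← conj_pow, hj', ← pow_mul, mul_assoc]
  have hm5 : j % 5 = 1 := by
    have h1 : d ^ 1 = d ^ (j * j * j) := by rw [pow_one]; exact h3
    rw [pow_eq_pow_iff_modEq, hd, Nat.ModEq] at h1
    have key : ∀ m < 5, m * m * m % 5 = 1 → m = 1 := by decide
    exact key _ (Nat.mod_lt _ (by norm_num)) (by simpa [Nat.mul_mod] using h1.symm)
  have hj1 : x * d * x⁻¹ = d := by rw [hj', ← pow_mod_orderOf, hd, hm5, pow_one]
  exact (mul_inv_eq_iff_eq_mul.1 hj1).symm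

end Sixteen

/-- The elements of odd prime order on sixteen points. -/
theorem prime_cases (hV : Exp2 V) (h16 : Nat.card V = 16) {s : ℕ} (hs : s.Prime) (hs2 : s ≠ 2)
    {g : MulAut V} (hg : orderOf g = s) :
    (s = 3 ∧ Nat.card ↥(fx g) ≠ 2) ∨ (s = 5 ∧ fx g = ⊥) ∨ (s = 7 ∧ Nat.card ↥(fx g) = 2) := by
  obtain ⟨e, he, hecard⟩ := card_fx_cases hV
    (fun h => hs.ne_one (by rw [← hg, h, orderOf_one]) : g ≠ 1) (N := 4) h16
  have hm := card_fx_modEq hs hg
  rw [h16, hecard] at hm
  have hd : s ∣ 16 - 2 ^ e :=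
    (Nat.modEq_iff_dvd' (le_trans (Nat.pow_le_pow_right (by norm_num) he.le) (by norm_num))).1 hm.symm
  interval_cases e
  · norm_num at hd
    have hle := Nat.le_of_dvd (by norm_num) hd
    have h35 : s = 3 ∨ s = 5 := by interval_cases s <;> first | omega | norm_num at hs
    rcases h35 with rfl | rfl
    · exact Or.inl ⟨rfl, by rw [hecard]; norm_num⟩
    · exact Or.inr (Or.inl ⟨rfl, Subgroup.card_eq_one.1 (by rw [hecard]; rfl)⟩)
  · norm_num at hd
    have hle := Nat.le_of_dvd (by norm_num) hd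
    have h7 : s = 7 := by interval_cases s <;> first | omega | norm_num at hs
    exact Or.inr (Or.inr ⟨h7, hecard.trans rfl⟩)
  · norm_num at hd
    have hle := Nat.le_of_dvd (by norm_num) hd
    have h3 : s = 3 := by interval_cases s <;> first | omega | norm_num at hs
    exact Or.inl ⟨h3, by rw [hecard]; norm_num⟩
  · norm_num at hd
    have hle := Nat.le_of_dvd (by norm_num) hd
    interval_cases s <;> first | omega | norm_num at hs

/-- Fixed points of a member of a commuting pair, when they form a group of order at most two. -/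
theorem apply_eq_of_fx_two {a b : MulAut V} (hab : b * a = a * b) (h2 : Nat.card ↥(fx a) ≤ 2)
    {u : V} (hu : a u = u) : b u = u := by
  rcases eq_or_ne u 1 with rfl | hu1
  · exact map_one b
  have hbu : b u ∈ fx a := apply_mem_fx hab hu
  have hset : ({1, u} : Set V) = fx a := by
    refine Set.eq_of_subset_of_ncard_le ?_ ?_
    · rintro z (rfl | rfl)
      · exact one_mem _
      · exact hu
    · rw [Set.ncard_pair (Ne.symm hu1), ← Nat.card_coe_set_eq]; exact h2
  have h3 : b u ∈ ({1, u} : Set V) := hset ▸ hbu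
  rcases h3 with h3 | h3
  · exact absurd (b.injective (h3.trans (map_one b).symm)) hu1
  · exact h3

/-- A group acting without fixing a given point is small. -/
theorem free_card_le (h16 : Nat.card V = 16) (A : Subgroup (MulAut V)) {v : V} (hv : v ≠ 1)
    (hfree : ∀ a ∈ A, a v = v → a = 1) : Nat.card A ≤ 15 := by
  classical
  haveI : Fintype V := Fintype.ofFinite V
  let f : A → {u : V // u ≠ 1} := fun a =>
    ⟨(a : MulAut V) v, fun h => hv ((a : MulAut V).injective (h.trans (map_one _).symm))⟩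
  have hf : Function.Injective f := by
    intro a b h
    have h' : (a : MulAut V) v = (b : MulAut V) v := congrArg Subtype.val h
    have h1 := hfree _ (mul_mem (inv_mem b.2) a.2)
      (by rw [MulAut.mul_apply, h', MulAut.inv_apply_self])
    exact Subtype.ext (inv_mul_eq_one.1 h1).symm
  refine (Nat.card_le_card_of_injective f hf).trans ?_
  rw [Nat.card_eq_fintype_card, Fintype.card_subtype_compl, Fintype.card_subtype_eq,
    Fintype.card_eq_nat_card, h16]

section Sixteen2

variable (hV : Exp2 V) (h16 : Nat.card V = 16) {x y : MulAut V} (hx : IsLine x) (hy : IsLine y)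
  (hxy : mv x ⊓ mv y = ⊥)

include hV h16

/-- A normal elementary three-subgroup centralises a line. -/
theorem three_centralizes {A : Subgroup (MulAut V)} (hAp : IsPGroup 3 A) (hexp : ∀ a ∈ A, a ^ 3 = 1)
    {z : MulAut V} (hzl : IsLine z) (hAn : ∀ a ∈ A, z * a * z⁻¹ ∈ A) {a : MulAut V} (ha : a ∈ A) :
    Commute a z := by
  haveI : Fact (Nat.Prime 3) := ⟨Nat.prime_three⟩
  haveI := finite_aut (V := V)
  set P := A ⊔ Subgroup.zpowers z with hP
  have hn : Subgroup.zpowers z ≤ Subgroup.normalizer (A : Set (MulAut V)) :=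
    Subgroup.zpowers_le.2 (CfsgLib.Coprime.mem_normalizer_of_forall_conj hAn)
  have hPp : IsPGroup 3 P := IsPGroup.to_sup_of_normal_left' hAp
    (IsPGroup.of_card (n := 1) (by rw [Nat.card_zpowers, hzl.1, pow_one])) hn
  have haP : a ∈ P := Subgroup.mem_sup_left ha
  have hzP : z ∈ P := Subgroup.mem_sup_right (Subgroup.mem_zpowers z)
  obtain ⟨z1, hz1⟩ : ∃ z1, z1 = a * z * a⁻¹ := ⟨_, rfl⟩
  obtain ⟨z2, hz2⟩ : ∃ z2, z2 = a * z1 * a⁻¹ := ⟨_, rfl⟩
  have hl1 : IsLine z1 := hz1 ▸ hzl.conj a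
  have hl2 : IsLine z2 := hz2 ▸ hl1.conj a
  have h1P : z1 ∈ P := hz1 ▸ mul_mem (mul_mem haP hzP) (inv_mem haP)
  have h2P : z2 ∈ P := hz2 ▸ mul_mem (mul_mem haP h1P) (inv_mem haP)
  have c10 := lines_commute hV _ P le_rfl hPp z1 h1P z hzP hl1 hzl
  have c20 := lines_commute hV _ P le_rfl hPp z2 h2P z hzP hl2 hzl
  have c21 := lines_commute hV _ P le_rfl hPp z2 h2P z1 h1P hl2 hl1
  have ha3 : a * z2 * a⁻¹ = z := by
    rw [hz2, hz1]
    calc _ = a ^ 3 * z * (a ^ 3)⁻¹ := by simp only [pow_succ, pow_zero, one_mul]; group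
      _ = z := by rw [hexp a ha]; group
  by_cases h01 : mv z = mv z1
  · rcases mem_zpowers_three hzl (mem_zpowers_of_mv_eq hV hzl hl1 c10 h01) with h | h | h
    · exact absurd h hl1.ne_one
    · exact (mul_inv_eq_iff_eq_mul.1 (hz1.symm.trans h) :)
    · exfalso
      have e1 : z2 = z := by
        rw [hz2, h]
        calc a * z⁻¹ * a⁻¹ = (a * z * a⁻¹)⁻¹ := by group
          _ = z := by rw [← hz1, h, inv_inv]
      rw [e1, ← hz1, h] at ha3
      have h5 := orderOf_dvd_of_pow_eq_one (x := z) (n := 2) (by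
        rw [pow_two]; nth_rw 1 [← ha3]; rw [inv_mul_cancel])
      rw [hzl.1] at h5
      norm_num at h5
  · exfalso
    have e1 : mv z1 = (mv z).map a.toMonoidHom := hz1 ▸ mv_conj a z
    have e2 : mv z2 = (mv z1).map a.toMonoidHom := hz2 ▸ mv_conj a z1
    have e3 : mv z = (mv z2).map a.toMonoidHom := by rw [← mv_conj, ha3]
    have h12 : mv z1 ≠ mv z2 := fun h => h01 (by
      rw [e2] at h
      nth_rewrite 1 [e1] at h
      exact Subgroup.map_injective a.injective h)
    have h02 : mv z ≠ mv z2 := fun h => h01 (by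
      rw [e1]; nth_rewrite 1 [e3]; rw [h])
    have hz01 : mv z ⊓ mv z1 = ⊥ := mv_inf_mv hV hzl hl1 c10 h01
    have hinf := sup_inf_mv hV hzl hl1 hl2 c20 c21 h02 h12
    rw [Subgroup.eq_top_of_card_eq (mv z ⊔ mv z1)
      (by rw [card_sup_of_disjoint hz01, hzl.2, hl1.2, h16]), top_inf_eq] at hinf
    have h4 := hl2.2
    rw [hinf, Subgroup.card_bot] at h4
    norm_num at h4

include hx hy hxy

/-- The case of a fixed-point-free central element of order three. -/
theorem comm_of_central {Γ : Subgroup (MulAut V)} (hxΓ : x ∈ Γ) (hyΓ : y ∈ Γ)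
    (ho : Odd (Nat.card Γ)) {d : MulAut V} (hd : orderOf d = 3) (hfix : fx d = ⊥)
    (hcent : ∀ g ∈ Γ, Commute d g) : x * y = y * x := by
  classical
  haveI := finite_aut (V := V)
  obtain ⟨v, hv, hv1⟩ := exists_ne_one_of_card hx.2 (by norm_num)
  obtain ⟨w, hw, hw1⟩ := exists_ne_one_of_card hy.2 (by norm_num)
  have hfix' : ∀ u, d u = u → u = 1 := fun u hu => (Subgroup.eq_bot_iff_forall _).1 hfix u hu
  have hdet : ∀ g ∈ Γ, g v = v → g w = w → g = 1 := by
    intro g hg hgv hgw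
    have hgl : ∀ (z : MulAut V), IsLine z → Commute d z → ∀ u ∈ mv z, u ≠ 1 → g u = u →
        ∀ t ∈ mv z, g t = t := by
      intro z hz hdz u hu hu1 hgu t ht
      have hdu : d u ∈ mv z := apply_mem_mv hdz hu
      have hgdu : g (d u) = d u := by
        rw [← MulAut.mul_apply, ← (hcent g hg).eq, MulAut.mul_apply, hgu]
      rcases four_cases hV hz.2 hu hdu hu1 (fun h => hu1 (d.injective (h.trans (map_one d).symm)))
        (fun h => hu1 (hfix' u h.symm)) ht with rfl | rfl | rfl | rfl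
      · exact map_one g
      · exact hgu
      · exact hgdu
      · rw [map_mul, hgu, hgdu]
    ext t
    obtain ⟨t1, ht1, t2, ht2, rfl⟩ :=
      exists_mul_of_sup ((sup_eq_top hV h16 hx hy hxy).ge (Subgroup.mem_top t))
    rw [map_mul, hgl x hx (hcent x hxΓ) v hv hv1 hgv t1 ht1,
      hgl y hy (hcent y hyΓ) w hw hw1 hgw t2 ht2]
    rfl
  have hbound : Nat.card Γ ≤ 225 := by
    let f : Γ → {u : V // u ≠ 1} × {u : V // u ≠ 1} := fun g =>
      (⟨(g : MulAut V) v, fun h => hv1 ((g : MulAut V).injective (h.trans (map_one _).symm))⟩,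
       ⟨(g : MulAut V) w, fun h => hw1 ((g : MulAut V).injective (h.trans (map_one _).symm))⟩)
    have hf : Function.Injective f := by
      intro g g' h
      have h1 : (g : MulAut V) v = (g' : MulAut V) v := congrArg (fun p => (p.1 : V)) h
      have h2 : (g : MulAut V) w = (g' : MulAut V) w := congrArg (fun p => (p.2 : V)) h
      have := hdet _ (mul_mem (inv_mem g'.2) g.2)
        (by rw [MulAut.mul_apply, h1, MulAut.inv_apply_self])
        (by rw [MulAut.mul_apply, h2, MulAut.inv_apply_self])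
      exact Subtype.ext (inv_mul_eq_one.1 this).symm
    refine (Nat.card_le_card_of_injective f hf).trans ?_
    haveI : Fintype V := Fintype.ofFinite V
    rw [Nat.card_prod, Nat.card_eq_fintype_card, Fintype.card_subtype_compl,
      Fintype.card_subtype_eq, Fintype.card_eq_nat_card, h16]
  have hprimes : ∀ (t : ℕ), t.Prime → ∀ g ∈ Γ, orderOf g = t → t ≠ 3 → t = 5 ∧ fx g = ⊥ := by
    intro t ht g hg hgo ht3
    have ht2 : t ≠ 2 := fun h => by
      have := Odd.of_dvd_nat ho (Γ.orderOf_dvd_natCard hg)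
      rw [hgo, h] at this
      exact absurd this (by decide)
    rcases prime_cases hV h16 ht ht2 hgo with ⟨h, -⟩ | h | ⟨-, h7⟩
    · exact absurd h ht3
    · exact h
    · exfalso
      obtain ⟨u, hu, hu1⟩ := exists_ne_one_of_card h7 le_rfl
      exact hu1 (hfix' u (apply_eq_of_fx_two (hcent g hg).eq h7.le hu))
  by_cases h3g : IsPGroup 3 Γ
  · exact lines_commute hV _ Γ le_rfl h3g x hxΓ y hyΓ hx hy
  exfalso
  obtain ⟨s, hs', hsΓ, hs3⟩ : ∃ s, s.Prime ∧ s ∣ Nat.card Γ ∧ s ≠ 3 := by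
    by_contra! h
    refine h3g (IsPGroup.of_card (n := (Nat.card Γ).primeFactorsList.length) ?_)
    exact Nat.eq_prime_pow_of_unique_prime_dvd Nat.card_pos.ne' fun {d} hd hdd => h d hd hdd
  haveI := Fact.mk hs'
  obtain ⟨g, hg⟩ := exists_prime_orderOf_dvd_card' s hsΓ
  have hgo : orderOf (g : MulAut V) = s := by rwa [Subgroup.orderOf_coe]
  obtain ⟨rfl, hgfix⟩ := hprimes s hs' g g.2 hgo hs3
  obtain ⟨P⟩ := (inferInstance : Nonempty (Sylow 5 Γ))
  have hPcard : Nat.card (P : Subgroup Γ) = 5 := by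
    obtain ⟨j, hj⟩ := IsPGroup.iff_card.1 P.isPGroup'
    have hj0 : j ≠ 0 := by
      rintro rfl
      exact P.not_dvd_index (by
        have h := (P : Subgroup Γ).card_mul_index
        rw [hj, pow_zero, one_mul] at h
        rw [h]; exact hsΓ)
    have hle : Nat.card ((P : Subgroup Γ).map Γ.subtype) ≤ 15 := by
      refine free_card_le h16 _ hv1 ?_
      rintro _ ⟨c, hc, rfl⟩ hcv
      by_contra hc1
      obtain ⟨t, ht⟩ := IsPGroup.iff_orderOf.1 P.isPGroup' ⟨c, hc⟩
      rw [Subgroup.orderOf_mk] at ht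
      have hc1' : c ≠ 1 := fun h => hc1 (by rw [h]; rfl)
      have ht0 : t ≠ 0 := fun h0 => hc1' (orderOf_eq_one_iff.1 (by rw [ht, h0, pow_zero]))
      have hco : orderOf ((c : MulAut V) ^ (5 ^ (t - 1))) = 5 := by
        rw [orderOf_pow, Subgroup.orderOf_coe, ht, Nat.gcd_eq_right (pow_dvd_pow 5 (Nat.sub_le t 1)),
          Nat.pow_div (Nat.sub_le t 1) (by norm_num), show t - (t - 1) = 1 by omega, pow_one]
      obtain ⟨-, hb⟩ := hprimes 5 hs' _ (pow_mem c.2 _) hco (by norm_num)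
      exact hv1 ((Subgroup.eq_bot_iff_forall _).1 hb v (pow_apply_eq_self hcv _))
    rw [Subgroup.card_map_of_injective Γ.subtype_injective, hj] at hle
    have hj1 : j = 1 := by
      by_contra hne
      have h2 : 5 ^ 2 ≤ 5 ^ j := Nat.pow_le_pow_right (by norm_num) (by omega)
      omega
    rw [hj, hj1, pow_one]
  have hn5 : Nat.card (Sylow 5 Γ) = 1 := by
    have h1 := card_sylow_modEq_one 5 Γ
    have h2 := P.card_dvd_index
    have h3 := (P : Subgroup Γ).card_mul_index
    rw [hPcard] at h3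
    have hm45 : (P : Subgroup Γ).index ≤ 45 := by omega
    have h3only : ∀ {t : ℕ}, t.Prime → t ∣ (P : Subgroup Γ).index → t = 3 := by
      intro t ht htm
      by_contra ht3
      haveI := Fact.mk ht
      obtain ⟨g', hg'⟩ := exists_prime_orderOf_dvd_card' t (htm.trans (Dvd.intro_left _ h3))
      obtain ⟨rfl, -⟩ := hprimes t ht g' g'.2 (by rwa [Subgroup.orderOf_coe]) ht3
      exact P.not_dvd_index htm
    have hpow := Nat.eq_prime_pow_of_unique_prime_dvd Subgroup.index_ne_zero_of_finite h3only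
    obtain ⟨l, hl, he⟩ := (Nat.dvd_prime_pow Nat.prime_three).1 (hpow ▸ h2)
    have hl3 : l ≤ 3 := by
      by_contra hgt
      have h4 : 3 ^ 4 ≤ 3 ^ l := Nat.pow_le_pow_right (by norm_num) (by omega)
      have h5 := Nat.le_of_dvd (Nat.pos_of_ne_zero Subgroup.index_ne_zero_of_finite) h2
      omega
    rw [he] at h1 ⊢
    interval_cases l <;> revert h1 <;> decide
  haveI : Subsingleton (Sylow 5 Γ) := (Nat.card_eq_one_iff_unique.1 hn5).1
  haveI hPn : (P : Subgroup Γ).Normal := Sylow.normal_of_subsingleton P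
  have hgP : g ∈ (P : Subgroup Γ) := by
    obtain ⟨Q, hQ⟩ := (IsPGroup.of_card (p := 5) (n := 1)
      (by rw [Nat.card_zpowers, hg, pow_one]) : IsPGroup 5 (Subgroup.zpowers g)).exists_le_sylow
    rw [Subsingleton.elim P Q]; exact hQ (Subgroup.mem_zpowers g)
  have hPz : (P : Subgroup Γ) = Subgroup.zpowers g :=
    (Subgroup.eq_of_le_of_card_ge (Subgroup.zpowers_le.2 hgP)
      (by rw [Nat.card_zpowers, hg, hPcard])).symm
  have hmem := hPn.conj_mem g hgP ⟨x, hxΓ⟩
  rw [hPz] at hmem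
  obtain ⟨j, hj⟩ := Subgroup.mem_zpowers_iff.1 hmem
  refine five_false hV h16 hx hgo hgfix (Subgroup.mem_zpowers_iff.2 ⟨j, ?_⟩)
  have hj' := congrArg Subtype.val hj
  simpa using hj'

/-- A solvable group of odd order generated by two complementary lines is abelian. -/
theorem lines_comm_sixteen (hs : Group.IsSolvable ↥(Subgroup.closure ({x, y} : Set (MulAut V))))
    (ho : Odd (Nat.card ↥(Subgroup.closure ({x, y} : Set (MulAut V))))) : x * y = y * x := by
  classical
  haveI := finite_aut (V := V)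
  set Γ := Subgroup.closure ({x, y} : Set (MulAut V)) with hΓ
  have hxΓ : x ∈ Γ := Subgroup.subset_closure (by simp)
  have hyΓ : y ∈ Γ := Subgroup.subset_closure (by simp)
  haveI : Nontrivial Γ := ⟨⟨⟨x, hxΓ⟩, 1, fun h => hx.ne_one (congrArg Subtype.val h)⟩⟩
  obtain ⟨A₀, hA₀⟩ := CfsgLib.MinNormal.exists_isMinNormal (G := Γ)
  obtain ⟨r, hr, hAel, hAp, k, hk, hAcard⟩ := hA₀.elementaryAbelian_of_solvable
  haveI := Fact.mk hr
  set A := A₀.map Γ.subtype with hA
  have hcardA : Nat.card A = r ^ k := by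
    rw [hA, Subgroup.card_map_of_injective Γ.subtype_injective, hAcard]
  have hAΓ : A ≤ Γ := Subgroup.map_subtype_le _
  have hAn : ∀ g ∈ Γ, ∀ a ∈ A, g * a * g⁻¹ ∈ A := by
    rintro g hg _ ⟨a, ha, rfl⟩
    exact ⟨_, hA₀.1.conj_mem a ha ⟨g, hg⟩, rfl⟩
  have hAexp : ∀ a ∈ A, a ^ r = 1 := by
    rintro _ ⟨a, ha, rfl⟩
    exact congrArg Subtype.val (hAel.2 a ha)
  have hAcomm : ∀ a ∈ A, ∀ b ∈ A, a * b = b * a := by
    rintro _ ⟨a, ha, rfl⟩ _ ⟨b, hb, rfl⟩
    exact congrArg Subtype.val (congrArg Subtype.val (hAel.1.1.comm ⟨a, ha⟩ ⟨b, hb⟩))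
  obtain ⟨d, hdA, hd⟩ : ∃ d ∈ A, orderOf d = r := by
    obtain ⟨d, hd⟩ := exists_prime_orderOf_dvd_card' r (G := A)
      (by rw [hcardA]; exact dvd_pow_self r hk.ne')
    exact ⟨d, d.2, by rwa [Subgroup.orderOf_coe]⟩
  have hr2 : r ≠ 2 := fun h => by
    have := Odd.of_dvd_nat ho (Γ.orderOf_dvd_natCard (hAΓ hdA))
    rw [hd, h] at this
    exact absurd this (by decide)
  by_cases hr3 : r = 3
  · subst hr3
    have hcx : Commute d x :=
      three_centralizes hV h16 (hAp.map _) hAexp hx (hAn x hxΓ) hdA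
    have hcy : Commute d y :=
      three_centralizes hV h16 (hAp.map _) hAexp hy (hAn y hyΓ) hdA
    by_cases hfix : fx d = ⊥
    · refine comm_of_central hV h16 hx hy hxy hxΓ hyΓ ho hd hfix fun g hg => ?_
      have hle : Γ ≤ Subgroup.centralizer ({d} : Set (MulAut V)) := (Subgroup.closure_le _).2 (by
        rintro w (rfl | rfl)
        · exact Subgroup.mem_centralizer_singleton_iff.2 hcx.symm.eq
        · exact Subgroup.mem_centralizer_singleton_iff.2 hcy.symm.eq)
      exact (Subgroup.mem_centralizer_singleton_iff.1 (hle hg)).symm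
    · have conj1 : ∀ g : MulAut V, Commute d g → g⁻¹ * d * g ∈ Subgroup.zpowers d ∧
          g * d * g⁻¹ ∈ Subgroup.zpowers d := fun g hg => by
        rw [mul_assoc, hg.eq, inv_mul_cancel_left, ← hg.eq, mul_inv_cancel_right]
        exact ⟨Subgroup.mem_zpowers d, Subgroup.mem_zpowers d⟩
      exact comm_of_fixed hV h16 hx hy hxy hr hr2 hd (conj1 x hcx).1 (conj1 x hcx).2
        (conj1 y hcy).1 (conj1 y hcy).2 hfix
  -- five or seven: the subgroup is cyclic
  have hfree : ∀ b ∈ A, b ≠ 1 → ∀ u, b u = u → d u = u := by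
    intro b hb hb1 u hu
    rcases prime_cases hV h16 hr hr2 (orderOf_eq_prime (hAexp b hb) hb1) with ⟨h, -⟩ | ⟨-, h⟩ | ⟨-, h⟩
    · exact absurd h hr3
    · rw [(Subgroup.eq_bot_iff_forall _).1 h u hu]; exact map_one d
    · exact apply_eq_of_fx_two (hAcomm d hdA b hb) h.le hu
  have hAd : A = Subgroup.zpowers d := by
    refine (Subgroup.eq_of_le_of_card_ge (Subgroup.zpowers_le.2 hdA) ?_).symm
    obtain ⟨u, hu⟩ : ∃ u, d u ≠ u := by
      by_contra! h
      have : d = 1 := MulEquiv.ext h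
      exact hr.ne_one (by rw [← hd, this, orderOf_one])
    have hle := free_card_le h16 A (fun h => hu (by rw [h]; exact map_one d))
      (fun a ha hau => by_contra fun ha1 => hu (hfree a ha ha1 u hau))
    rw [hcardA] at hle ⊢
    rw [Nat.card_zpowers, hd]
    have hr5 : 5 ≤ r := by
      rcases prime_cases hV h16 hr hr2 hd with ⟨h, -⟩ | ⟨h, -⟩ | ⟨h, -⟩
      · exact absurd h hr3
      all_goals omega
    have hk1 : k = 1 := by
      by_contra hne
      have h2 : r ^ 2 ≤ r ^ k := Nat.pow_le_pow_right (by omega) (by omega)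
      nlinarith
    rw [hk1, pow_one]
  rcases prime_cases hV h16 hr hr2 hd with ⟨h, -⟩ | ⟨rfl, hfix⟩ | ⟨-, h7⟩
  · exact absurd h hr3
  · exact (five_false hV h16 hx hd hfix (hAd ▸ hAn x hxΓ d hdA)).elim
  · refine comm_of_fixed hV h16 hx hy hxy hr hr2 hd ?_ ?_ ?_ ?_
      (fun h => by rw [h, Subgroup.card_bot] at h7; norm_num at h7) <;> rw [← hAd]
    · simpa using hAn x⁻¹ (inv_mem hxΓ) d hdA
    · exact hAn x hxΓ d hdA
    · simpa using hAn y⁻¹ (inv_mem hyΓ) d hdA
    · exact hAn y hyΓ d hdA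

end Sixteen2

/-- Two lines: the same four-group, the second fixes the four-group of the first, or they move
eight elements. -/
theorem pair (hV : Exp2 V) {Γ : Subgroup (MulAut V)} (hs : Group.IsSolvable Γ)
    (ho : Odd (Nat.card Γ)) {x y : MulAut V} (hxΓ : x ∈ Γ) (hyΓ : y ∈ Γ) (hx : IsLine x)
    (hy : IsLine y) (hne : mv x ≠ mv y) :
    (∀ v ∈ mv x, y v = v) ∨ Nat.card ↥(mv x ⊔ mv y) = 8 := by
  classical
  haveI := finite_aut (V := V)
  by_cases hxy : mv x ⊓ mv y = ⊥
  swap
  · right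
    have h := card_sup_eq (mv x) (mv y)
    rw [hx.2, hy.2, inf_comm] at h
    obtain ⟨k, hk⟩ := exists_two_pow hV (mv x ⊓ mv y)
    have hk0 : k ≠ 0 := fun h0 => hxy (Subgroup.card_eq_one.1 (by rw [hk, h0, pow_zero]))
    have hk2 : k < 2 := by
      by_contra hge
      refine hne ?_
      have h1 : 4 ≤ Nat.card ↥(mv x ⊓ mv y) := by
        rw [hk]; exact le_trans (by norm_num) (Nat.pow_le_pow_right (by norm_num) (not_lt.1 hge))
      exact (Subgroup.eq_of_le_of_card_ge inf_le_left (hx.2.trans_le h1)).symm.trans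
        (Subgroup.eq_of_le_of_card_ge inf_le_right (hy.2.trans_le h1))
    rw [hk, show k = 1 by omega, pow_one] at h
    omega
  left
  set U := mv x ⊔ mv y with hU
  set Γ' := Subgroup.closure ({x, y} : Set (MulAut V)) with hΓ'
  have hle : Γ' ≤ Γ := (Subgroup.closure_le _).2 (by rintro z (rfl | rfl) <;> assumption)
  let St : Subgroup (MulAut V) :=
    { carrier := {g | U.map g.toMonoidHom = U}
      one_mem' := Subgroup.map_id U
      mul_mem' := fun {a b} (ha : U.map a.toMonoidHom = U) (hb : U.map b.toMonoidHom = U) => by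
        show U.map (a * b).toMonoidHom = U
        rw [show (a * b).toMonoidHom = a.toMonoidHom.comp b.toMonoidHom from rfl, ← Subgroup.map_map,
          hb, ha]
      inv_mem' := fun {a} (ha : U.map a.toMonoidHom = U) => by
        show U.map a⁻¹.toMonoidHom = U
        conv_lhs => rw [← ha]
        rw [Subgroup.map_map]
        convert Subgroup.map_id U using 2
        ext z; exact MulAut.inv_apply_self .. }
  have hinv : ∀ g ∈ Γ', ∀ u ∈ U, g u ∈ U := by
    intro g hg u hu
    have hstab : Γ' ≤ St := by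
      refine (Subgroup.closure_le _).2 ?_
      rintro z (rfl | rfl)
      · refine Subgroup.eq_of_le_of_card_ge ?_ (Subgroup.card_map_of_injective z.injective).ge
        rintro _ ⟨u, hu, rfl⟩
        have h := apply_mem_sup_mv hV z hu
        rwa [hU, ← sup_assoc, sup_idem] at h
      · refine Subgroup.eq_of_le_of_card_ge ?_ (Subgroup.card_map_of_injective z.injective).ge
        rintro _ ⟨u, hu, rfl⟩
        have h := apply_mem_sup_mv hV z hu
        rwa [hU, sup_comm (mv z) (_ ⊔ _), sup_assoc, sup_idem] at h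
    have : U.map g.toMonoidHom = U := hstab hg
    rw [← this]; exact ⟨u, hu, rfl⟩
  set x' : Γ' := ⟨x, Subgroup.subset_closure (by simp)⟩
  set y' : Γ' := ⟨y, Subgroup.subset_closure (by simp)⟩
  set ρ := res Γ' U hinv with hρ
  obtain ⟨hlx, hmx⟩ := res_isLine hV Γ' U hinv (x := x') hx le_sup_left
  obtain ⟨hly, hmy⟩ := res_isLine hV Γ' U hinv (x := y') hy le_sup_right
  have hinf : mv (ρ x') ⊓ mv (ρ y') = ⊥ := by
    apply Subgroup.map_injective U.subtype_injective
    rw [Subgroup.map_inf _ _ _ U.subtype_injective, hmx, hmy, Subgroup.map_bot]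
    exact hxy
  have himg : Subgroup.closure ({ρ x', ρ y'} : Set (MulAut U)) ≤ ρ.range :=
    (Subgroup.closure_le _).2 (by rintro z (rfl | rfl) <;> exact ⟨_, rfl⟩)
  haveI : Group.IsSolvable Γ' :=
    Group.isSolvable_of_isSolvable_injective (Subgroup.inclusion_injective hle)
  haveI : Group.IsSolvable ρ.range := Group.isSolvable_of_surjective ρ.rangeRestrict_surjective
  have hsol : Group.IsSolvable ↥(Subgroup.closure ({ρ x', ρ y'} : Set (MulAut U))) :=
    Group.isSolvable_of_isSolvable_injective (Subgroup.inclusion_injective himg)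
  have hodd : Odd (Nat.card ↥(Subgroup.closure ({ρ x', ρ y'} : Set (MulAut U)))) :=
    Odd.of_dvd_nat ho ((Subgroup.card_dvd_of_le himg).trans
      ((Subgroup.card_range_dvd ρ).trans (Subgroup.card_dvd_of_le hle)))
  have h16 : Nat.card U = 16 := by rw [hU, card_sup_of_disjoint hxy, hx.2, hy.2]
  have hc := lines_comm_sixteen (fun v => Subtype.ext (hV v)) h16 hlx hly hinf hsol hodd
  intro v hv
  obtain ⟨u, hu, rfl⟩ := exists_dv_eq hV hx hv
  have hmem : dv y (dv x u) ∈ mv x ⊓ mv y := by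
    refine ⟨?_, dv_mem_mv y _⟩
    rw [dv_apply]
    refine mul_mem ?_ hv
    have e : y (dv x u) = dv x (y u) := by
      have huU : u ∈ U := Subgroup.mem_sup_left hu
      have h1 := congrArg Subtype.val (DFunLike.congr_fun hc ⟨u, huU⟩)
      rw [MulAut.mul_apply, MulAut.mul_apply] at h1
      simp only [hρ, res_apply] at h1
      rw [dv_apply, dv_apply, map_mul]
      exact congrArg (· * y u) h1.symm
    rw [e]
    exact dv_mem_mv x _
  rw [hxy, Subgroup.mem_bot] at hmem
  exact (dv_eq_one_iff hV).1 hmem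

/-- A third line either lies in the eight-group of a pair or fixes it. -/
theorem triple (hV : Exp2 V) {Γ : Subgroup (MulAut V)} (hs : Group.IsSolvable Γ)
    (ho : Odd (Nat.card Γ)) {x y z : MulAut V} (hxΓ : x ∈ Γ) (hyΓ : y ∈ Γ) (hzΓ : z ∈ Γ)
    (hx : IsLine x) (hy : IsLine y) (hz : IsLine z) (h8 : Nat.card ↥(mv x ⊔ mv y) = 8)
    (hnle : ¬ mv z ≤ mv x ⊔ mv y) : ∀ v ∈ mv x ⊔ mv y, z v = v := by
  classical
  set U := mv x ⊔ mv y with hU
  by_contra hcon
  push Not at hcon
  -- planes in `U`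
  have hplane : ∀ g ∈ Γ, IsLine g → mv g ≤ U → (∀ v ∈ mv g, z v = v) ∨ mv g ⊓ mv z ≠ ⊥ := by
    intro g hg hgl hgU
    rcases pair hV hs ho hg hzΓ hgl hz (fun e => hnle (e ▸ hgU)) with h | h
    · exact Or.inl h
    · refine Or.inr fun e => ?_
      rw [card_sup_of_disjoint e, hgl.2, hz.2] at h
      norm_num at h
  obtain ⟨ℓ, hℓ, hℓ1⟩ : ∃ ℓ ∈ mv z ⊓ U, ℓ ≠ 1 := by
    by_contra! h
    have hb : mv z ⊓ U = ⊥ := (Subgroup.eq_bot_iff_forall _).2 h
    obtain ⟨v, hv, hzv⟩ := hcon
    have hsmall : ∀ g ∈ Γ, IsLine g → mv g ≤ U → ∀ w ∈ mv g, z w = w := by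
      intro g hg hgl hgU
      refine (hplane g hg hgl hgU).resolve_right fun h' => h' ?_
      refine le_bot_iff.1 (le_trans ?_ hb.le)
      exact le_inf inf_le_right (inf_le_left.trans hgU)
    obtain ⟨a, ha, b, hb', rfl⟩ := exists_mul_of_sup hv
    exact hzv (by rw [map_mul, hsmall x hxΓ hx le_sup_left a ha, hsmall y hyΓ hy le_sup_right b hb'])
  have huniq : ∀ m ∈ mv z ⊓ U, m ≠ 1 → m = ℓ := by
    intro m hm hm1
    by_contra hne
    refine hnle fun u hu => ?_
    rcases four_cases hV hz.2 hℓ.1 hm.1 hℓ1 hm1 (Ne.symm hne) hu with rfl | rfl | rfl | rfl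
    · exact one_mem _
    · exact hℓ.2
    · exact hm.2
    · exact mul_mem hℓ.2 hm.2
  have hfix : ∀ g ∈ Γ, IsLine g → mv g ≤ U → ℓ ∉ mv g → ∀ w ∈ mv g, z w = w := by
    intro g hg hgl hgU hℓg
    refine (hplane g hg hgl hgU).resolve_right fun h' => h' ((Subgroup.eq_bot_iff_forall _).2 ?_)
    intro m hm
    by_contra hm1
    exact hℓg (huniq m ⟨hm.2, hgU hm.1⟩ hm1 ▸ hm.1)
  have hℓz : z ℓ ≠ ℓ := fun h => hℓ1 (eq_one_of_mem_mv_fx hV hz.odd hℓ.1 h)
  have hspan : ∀ P Q : Subgroup V, P ≤ U → Q ≤ U → Nat.card P = 4 → Nat.card Q = 4 → P ≠ Q →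
      P ⊔ Q = U := by
    intro P Q hP hQ hP4 hQ4 hPQ
    refine Subgroup.eq_of_le_of_card_ge (sup_le hP hQ) ?_
    rw [h8]
    obtain ⟨k, hk⟩ := exists_two_pow hV (P ⊔ Q)
    by_contra hlt
    rw [hk] at hlt
    have hk2 : k ≤ 2 := by
      by_contra h
      exact hlt (le_trans (by norm_num) (Nat.pow_le_pow_right (by norm_num) (by omega : 3 ≤ k)))
    have hle4 : Nat.card ↥(P ⊔ Q) ≤ 4 := hk ▸ Nat.pow_le_pow_right (by norm_num) hk2
    exact hPQ ((Subgroup.eq_of_le_of_card_ge le_sup_left (hle4.trans hP4.ge)).trans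
      (Subgroup.eq_of_le_of_card_ge le_sup_right (hle4.trans hQ4.ge)).symm)
  have hkill : ∀ g h : MulAut V, g ∈ Γ → h ∈ Γ → IsLine g → IsLine h → mv g ≤ U → mv h ≤ U →
      mv g ≠ mv h → ℓ ∉ mv g → ℓ ∉ mv h → False := by
    intro g h hg hh hgl hhl hgU hhU hne h1 h2
    refine hℓz ?_
    have hmem : ℓ ∈ mv g ⊔ mv h := (hspan _ _ hgU hhU hgl.2 hhl.2 hne).symm ▸ hℓ.2
    obtain ⟨a, ha, b, hb, rfl⟩ := exists_mul_of_sup hmem
    rw [map_mul, hfix g hg hgl hgU h1 a ha, hfix h hh hhl hhU h2 b hb]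
  have hne : mv x ≠ mv y := fun e => by
    rw [hU, e, sup_idem, hy.2] at h8; norm_num at h8
  -- a plane containing `ℓ` is impossible
  have side : ∀ x y : MulAut V, x ∈ Γ → y ∈ Γ → IsLine x → IsLine y → mv x ≠ mv y →
      mv x ⊔ mv y = U → ℓ ∈ mv x → False := by
    intro x y hxΓ hyΓ hx hy hne hsup hℓx
    have hyU : mv y ≤ U := hsup ▸ le_sup_right
    have hxU : mv x ≤ U := hsup ▸ le_sup_left
    obtain ⟨m, hm, hm1⟩ : ∃ m ∈ mv x ⊓ mv y, m ≠ 1 := by
      by_contra! h
      have := card_sup_of_disjoint ((Subgroup.eq_bot_iff_forall _).2 h : mv x ⊓ mv y = ⊥)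
      rw [hsup, h8, hx.2, hy.2] at this
      norm_num at this
    have hmoved : ∀ i : Fin 3, (x ^ (i : ℕ)) m = m → i = 0 := by
      intro i h
      obtain ⟨-, h2, h3, h4⟩ := hx.exists_cycle hV hm.1 hm1
      fin_cases i
      · rfl
      · exact absurd (by simpa using h : x m = m) (Ne.symm h3)
      · exfalso
        have h5 : x (x m) = m := by simpa [pow_two, MulAut.mul_apply] using h
        rw [h4] at h5
        exact h2 (mul_eq_left.1 h5)
    let g : Fin 3 → MulAut V := fun i => x ^ (i : ℕ) * y * (x ^ (i : ℕ))⁻¹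
    have hgΓ : ∀ i, g i ∈ Γ := fun i => mul_mem (mul_mem (pow_mem hxΓ _) hyΓ) (inv_mem (pow_mem hxΓ _))
    have hgl : ∀ i, IsLine (g i) := fun i => hy.conj _
    have hgU : ∀ i, mv (g i) ≤ U := by
      intro i
      rw [show mv (g i) = (mv y).map (x ^ (i : ℕ)).toMonoidHom from mv_conj _ y]
      rintro _ ⟨w, hw, rfl⟩
      have h := apply_mem_sup_mv hV (x ^ (i : ℕ)) (hyU hw)
      exact sup_le ((mv_pow_le hV x i).trans hxU) le_rfl h
    -- the trace of each conjugate plane on `mv x`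
    have htrace : ∀ (i : Fin 3) (w : V), w ∈ mv x → w ∈ mv (g i) → w ≠ 1 → w = (x ^ (i : ℕ)) m := by
      intro i w hwx hwg hw1
      rw [show mv (g i) = (mv y).map (x ^ (i : ℕ)).toMonoidHom from mv_conj _ y] at hwg
      obtain ⟨w', hw', rfl⟩ := hwg
      refine congrArg _ ?_
      have hw'x : w' ∈ mv x := by
        have : ∀ (k : ℕ) (u : V), (x ^ k) u ∈ mv x → u ∈ mv x := by
          intro k u hu
          have hmem : ∀ (k : ℕ) (u : V), u ∈ mv x → (x ^ k) u ∈ mv x := fun k u hu =>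
            apply_mem_mv (Commute.pow_self x k).eq hu
          have hfin : u = (x ^ (2 * k)) ((x ^ k) u) := by
            rw [← MulAut.mul_apply, ← pow_add, show 2 * k + k = 3 * k by ring, pow_mul,
              ← hx.1, pow_orderOf_eq_one, one_pow, MulAut.one_apply]
          rw [hfin]; exact hmem _ _ hu
        exact this _ _ hwx
      have hw'1 : w' ≠ 1 := fun h => hw1 (by rw [h]; exact map_one _)
      by_contra hne'
      refine hne (Subgroup.eq_of_le_of_card_ge (fun u hu => ?_) (hy.2.trans_le hx.2.ge))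
      rcases four_cases hV hx.2 hm.1 hw'x hm1 hw'1 (Ne.symm hne') hu with rfl | rfl | rfl | rfl
      · exact one_mem _
      · exact hm.2
      · exact hw'
      · exact mul_mem hm.2 hw'
    have hgne : ∀ i j, i ≠ j → mv (g i) ≠ mv (g j) := by
      intro i j hij e
      have hm_i : (x ^ (i : ℕ)) m ∈ mv (g i) := by
        rw [show mv (g i) = (mv y).map (x ^ (i : ℕ)).toMonoidHom from mv_conj _ y]
        exact ⟨m, hm.2, rfl⟩
      have h1 := htrace j _ (apply_mem_mv (Commute.pow_self x _).eq hm.1) (e ▸ hm_i)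
        (fun h => hm1 ((x ^ (i : ℕ)).injective (h.trans (map_one _).symm)))
      apply hij
      revert h1 hij
      have key : ∀ a b : Fin 3, a < b → (x ^ (a : ℕ)) m ≠ (x ^ (b : ℕ)) m := by
        intro a b hab h
        have h2 : (x ^ ((b : ℕ) - a)) m = m := by
          apply (x ^ (a : ℕ)).injective
          rw [← MulAut.mul_apply, ← pow_add, Nat.add_sub_cancel' (le_of_lt (Fin.lt_def.1 hab)), ← h]
        have := hmoved ⟨(b : ℕ) - a, by omega⟩ h2
        have h3 := congrArg Fin.val this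
        simp at h3
        omega
      intro hij h1
      rcases lt_trichotomy i j with h | h | h
      · exact absurd h1 (key i j h)
      · exact h
      · exact absurd h1.symm (key j i h)
    have hat : ∀ i j, ℓ ∈ mv (g i) → ℓ ∈ mv (g j) → i = j := by
      intro i j hi hj
      by_contra hij
      have h1 := htrace i ℓ hℓx hi hℓ1
      have h2 := htrace j ℓ hℓx hj hℓ1
      have key : ∀ a b : Fin 3, a < b → (x ^ (a : ℕ)) m ≠ (x ^ (b : ℕ)) m := by
        intro a b hab h
        have h2 : (x ^ ((b : ℕ) - a)) m = m := by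
          apply (x ^ (a : ℕ)).injective
          rw [← MulAut.mul_apply, ← pow_add, Nat.add_sub_cancel' (le_of_lt (Fin.lt_def.1 hab)), ← h]
        have := hmoved ⟨(b : ℕ) - a, by omega⟩ h2
        have h3 := congrArg Fin.val this
        simp at h3
        omega
      rcases lt_trichotomy i j with h | h | h
      · exact key i j h (h1.symm.trans h2)
      · exact hij h
      · exact key j i h (h2.symm.trans h1)
    by_cases h0 : ℓ ∈ mv (g 0)
    · exact hkill (g 1) (g 2) (hgΓ 1) (hgΓ 2) (hgl 1) (hgl 2) (hgU 1) (hgU 2) (hgne 1 2 (by decide))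
        (fun h => absurd (hat 0 1 h0 h) (by decide)) (fun h => absurd (hat 0 2 h0 h) (by decide))
    by_cases h1 : ℓ ∈ mv (g 1)
    · exact hkill (g 0) (g 2) (hgΓ 0) (hgΓ 2) (hgl 0) (hgl 2) (hgU 0) (hgU 2) (hgne 0 2 (by decide))
        h0 (fun h => absurd (hat 1 2 h1 h) (by decide))
    · exact hkill (g 0) (g 1) (hgΓ 0) (hgΓ 1) (hgl 0) (hgl 1) (hgU 0) (hgU 1) (hgne 0 1 (by decide))
        h0 h1
  by_cases h1 : ℓ ∈ mv x
  · exact side x y hxΓ hyΓ hx hy hne rfl h1
  by_cases h2 : ℓ ∈ mv y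
  · exact side y x hyΓ hxΓ hy hx (Ne.symm hne) (sup_comm _ _) h2
  exact hkill x y hxΓ hyΓ hx hy le_sup_left le_sup_right hne h1 h2

end CfsgLib.Lines85
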